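import Mathlib

/-!
# An involution opposite to a Sylow 2-subgroup of `SL(3, 2)`
-/

set_option autoImplicit false

namespace CfsgLib.Recog.HeldType.SLThreeTwo

open Matrix
open scoped MatrixGroups

local notation "Γ" => SL(3, ZMod 2)

theorem two_zero : (2 : ZMod 2) = 0 := rfl

theorem add_self_zero : ∀ t : ZMod 2, t + t = 0 := by decide

theorem eq_one_of_ne : ∀ t : ZMod 2, t ≠ 0 → t = 1 := by decide

theorem sq_entry : ∀ x z x' z' : ZMod 2, x * z = 0 → x' * z' = 0 → 0 + (x + x') * (z + z') = x * z' + x' * z := by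
  decide

/-- Entrywise test for the identity. -/
def isOne (M : Matrix (Fin 3) (Fin 3) (ZMod 2)) : Bool :=
  (List.finRange 3).all fun i => (List.finRange 3).all fun j => M i j == if i = j then 1 else 0

theorem isOne_iff {M : Matrix (Fin 3) (Fin 3) (ZMod 2)} : isOne M = true ↔ M = 1 := by
  simp only [isOne, List.all_eq_true, List.mem_finRange, true_implies, beq_iff_eq]
  exact ⟨fun h => by ext i j; rw [h i j, Matrix.one_apply], fun h i j => by rw [h, Matrix.one_apply]⟩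

/-- Upper unitriangular matrices. -/
def tri (x y z : ZMod 2) : Γ := ⟨!![1, x, y; 0, 1, z; 0, 0, 1], by simp [det_fin_three]⟩

theorem tri_mul (x y z x' y' z' : ZMod 2) :
    tri x y z * tri x' y' z' = tri (x + x') (y + y' + x * z') (z + z') := by
  refine Subtype.ext ?_
  rw [Matrix.SpecialLinearGroup.coe_mul]
  simp only [tri]
  ext i j
  fin_cases i <;> fin_cases j <;> simp [Matrix.mul_apply, Fin.sum_univ_three] <;> ring

/-- The upper unitriangular group. -/
def upper : Subgroup Γ where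
  carrier := {u | ∃ x y z, tri x y z = u}
  mul_mem' := by
    rintro _ _ ⟨x, y, z, rfl⟩ ⟨x', y', z', rfl⟩
    exact ⟨_, _, _, (tri_mul x y z x' y' z').symm⟩
  one_mem' := ⟨0, 0, 0, Subtype.ext (by
    ext i j; fin_cases i <;> fin_cases j <;> simp [tri])⟩
  inv_mem' := by
    rintro _ ⟨x, y, z, rfl⟩
    refine ⟨-x, x * z - y, -z, (inv_eq_of_mul_eq_one_right ?_).symm⟩
    rw [tri_mul]
    refine Subtype.ext ?_
    ext i j
    fin_cases i <;> fin_cases j <;> simp [tri] <;> ring_nf <;> simp [two_zero]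

theorem card_upper : Nat.card upper = 8 := by
  let φ : ZMod 2 × ZMod 2 × ZMod 2 → upper := fun p => ⟨tri p.1 p.2.1 p.2.2, _, _, _, rfl⟩
  have hφ : Function.Bijective φ := by
    refine ⟨fun p q h => ?_, fun ⟨u, x, y, z, hu⟩ => ⟨(x, y, z), Subtype.ext hu⟩⟩
    have h' : (tri p.1 p.2.1 p.2.2 : Matrix (Fin 3) (Fin 3) (ZMod 2)) = (tri q.1 q.2.1 q.2.2 : Γ) :=
      congrArg (fun u : upper => ((u : Γ) : Matrix (Fin 3) (Fin 3) (ZMod 2))) h
    have a := congrFun (congrFun h' 0) 1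
    have b := congrFun (congrFun h' 0) 2
    have c := congrFun (congrFun h' 1) 2
    simp [tri] at a b c
    exact Prod.ext a (Prod.ext b c)
  rw [← Nat.card_eq_of_bijective φ hφ, Nat.card_prod, Nat.card_prod, Nat.card_zmod]

theorem card_eq : Nat.card Γ = 168 := by
  have hker : Nat.card (GL (Fin 3) (ZMod 2)) = 168 := by
    rw [Matrix.card_GL_field, Fin.prod_univ_three, ZMod.card]
    rfl
  rw [← hker]
  refine Nat.card_eq_of_bijective Matrix.SpecialLinearGroup.toGL ⟨?_, fun u => ?_⟩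
  · intro u v h
    exact Subtype.ext (congrArg Units.val h)
  · have hu : (u : Matrix (Fin 3) (Fin 3) (ZMod 2)).det ≠ 0 :=
      ((Matrix.isUnit_iff_isUnit_det _).1 u.isUnit).ne_zero
    have h1 : ∀ x : ZMod 2, x ≠ 0 → x = 1 := by decide
    exact ⟨⟨u, h1 _ hu⟩, Units.ext rfl⟩

/-- Candidates for `d`. -/
def cands : List (Matrix (Fin 3) (Fin 3) (ZMod 2)) :=
  [!![0, 0, 1; 0, 1, 0; 1, 0, 0], !![0, 0, 1; 1, 1, 1; 1, 0, 0], !![0, 1, 0; 1, 0, 0; 1, 1, 1],
    !![0, 1, 1; 0, 1, 0; 1, 1, 0]]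

set_option maxRecDepth 20000 in
theorem exists_opposite_upper : ∀ x y z x' y' z' : ZMod 2,
    isOne (!![1, x, y; 0, 1, z; 0, 0, 1] * !![1, x, y; 0, 1, z; 0, 0, 1]) →
    isOne (!![1, x', y'; 0, 1, z'; 0, 0, 1] * !![1, x', y'; 0, 1, z'; 0, 0, 1]) →
    x * z' ≠ x' * z →
    ∃ d ∈ cands, d.det = 1 ∧ isOne (d * d) ∧
      isOne ((d * !![1, x, y; 0, 1, z; 0, 0, 1]) * (d * !![1, x, y; 0, 1, z; 0, 0, 1]) *
        (d * !![1, x, y; 0, 1, z; 0, 0, 1])) ∧
      isOne ((d * !![1, x', y'; 0, 1, z'; 0, 0, 1]) * (d * !![1, x', y'; 0, 1, z'; 0, 0, 1]) *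
        (d * !![1, x', y'; 0, 1, z'; 0, 0, 1])) ∧
      isOne ((d * !![1, 0, 1; 0, 1, 0; 0, 0, 1]) * (d * !![1, 0, 1; 0, 1, 0; 0, 0, 1]) *
        (d * !![1, 0, 1; 0, 1, 0; 0, 0, 1])) := by
  simp only [cands, Matrix.det_fin_three]
  decide +kernel

/-- An involution whose products with `f`, `g` and `(fg)²` have order three. -/
theorem exists_opposite {f g : Γ} (hf : f * f = 1) (hg : g * g = 1) (he1 : f * g * (f * g) ≠ 1)
    (he : f * g * (f * g) * (f * g * (f * g)) = 1) :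
    ∃ d : Γ, d * d = 1 ∧ (d * f) ^ 3 = 1 ∧ (d * g) ^ 3 = 1 ∧ (d * (f * g * (f * g))) ^ 3 = 1 := by
  haveI : Fact (Nat.Prime 2) := ⟨Nat.prime_two⟩
  obtain ⟨σ, hσd⟩ : ∃ σ, σ = f * g := ⟨_, rfl⟩
  -- a Sylow subgroup through `f` and `g`
  let D : Subgroup Γ :=
    { carrier := {x | ∃ k : ℕ, x = σ ^ k ∨ x = σ ^ k * f}
      mul_mem' := fun {x y} hx hy => by
        have h4 : σ ^ 4 = 1 := by rw [show 4 = 2 + 2 from rfl, pow_add, pow_two, hσd, he]
        have hfs : SemiconjBy f σ (σ ^ 3) := by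
          have hinv : σ ^ 3 = σ⁻¹ := (inv_eq_of_mul_eq_one_right (by rw [← pow_succ', h4])).symm
          rw [SemiconjBy, hinv, hσd, _root_.mul_inv_rev, inv_eq_of_mul_eq_one_right hf,
            inv_eq_of_mul_eq_one_right hg, ← mul_assoc, hf, one_mul, mul_assoc, hf, mul_one]
        have hflip : ∀ n : ℕ, f * σ ^ n = σ ^ (3 * n) * f := fun n => by
          rw [pow_mul]; exact (hfs.pow_right n).eq
        obtain ⟨k, rfl | rfl⟩ := hx <;> obtain ⟨m, rfl | rfl⟩ := hy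
        · exact ⟨k + m, Or.inl (pow_add σ k m).symm⟩
        · exact ⟨k + m, Or.inr (by rw [← mul_assoc, ← pow_add])⟩
        · exact ⟨k + 3 * m, Or.inr (by rw [mul_assoc, hflip, ← mul_assoc, ← pow_add])⟩
        · exact ⟨k + 3 * m, Or.inl (by
            rw [mul_assoc, ← mul_assoc f, hflip, mul_assoc (σ ^ (3 * m)), hf, mul_one, ← pow_add])⟩
      one_mem' := ⟨0, Or.inl (pow_zero σ).symm⟩
      inv_mem' := fun {x} hx => by
        have h4 : σ ^ 4 = 1 := by rw [show 4 = 2 + 2 from rfl, pow_add, pow_two, hσd, he]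
        obtain ⟨k, rfl | rfl⟩ := hx
        · exact ⟨3 * k, Or.inl (inv_eq_of_mul_eq_one_right (by
            rw [← pow_add, show k + 3 * k = 4 * k by ring, pow_mul, h4, one_pow]))⟩
        · refine ⟨k, Or.inr (inv_eq_of_mul_eq_one_right ?_)⟩
          have hinv : σ ^ 3 = σ⁻¹ := (inv_eq_of_mul_eq_one_right (by rw [← pow_succ', h4])).symm
          have hfs : SemiconjBy f σ (σ ^ 3) := by
            rw [SemiconjBy, hinv, hσd, _root_.mul_inv_rev, inv_eq_of_mul_eq_one_right hf,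
              inv_eq_of_mul_eq_one_right hg, ← mul_assoc, hf, one_mul, mul_assoc, hf, mul_one]
          rw [mul_assoc, ← mul_assoc f, (hfs.pow_right k).eq, mul_assoc ((σ ^ 3) ^ k), hf, mul_one, ← pow_mul,
            ← pow_add, show k + 3 * k = 4 * k by ring, pow_mul, h4, one_pow] }
  have hD : IsPGroup 2 D := fun ⟨x, k, hx⟩ => ⟨2, Subtype.ext (by
    show x ^ 2 ^ 2 = 1
    have h4 : σ ^ 4 = 1 := by rw [show 4 = 2 + 2 from rfl, pow_add, pow_two, hσd, he]
    obtain rfl | rfl := hx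
    · rw [← pow_mul, mul_comm, pow_mul, show 2 ^ 2 = 4 from rfl, h4, one_pow]
    · have hinv : σ ^ 3 = σ⁻¹ := (inv_eq_of_mul_eq_one_right (by rw [← pow_succ', h4])).symm
      have hfs : SemiconjBy f σ (σ ^ 3) := by
        rw [SemiconjBy, hinv, hσd, _root_.mul_inv_rev, inv_eq_of_mul_eq_one_right hf,
          inv_eq_of_mul_eq_one_right hg, ← mul_assoc, hf, one_mul, mul_assoc, hf, mul_one]
      have h2 : (σ ^ k * f) ^ 2 = 1 := by
        rw [pow_two, mul_assoc, ← mul_assoc f, (hfs.pow_right k).eq, mul_assoc ((σ ^ 3) ^ k), hf, mul_one,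
          ← pow_mul, ← pow_add, show k + 3 * k = 4 * k by ring, pow_mul, h4, one_pow]
      rw [show (2 : ℕ) ^ 2 = 2 * 2 from rfl, pow_mul, h2, one_pow])⟩
  obtain ⟨P, hP⟩ := hD.exists_le_sylow
  let U : Sylow 2 Γ := Sylow.ofCard upper (by
    rw [card_upper, card_eq, show 168 = 2 ^ 3 * 21 by norm_num, Nat.factorization_mul (by norm_num) (by norm_num),
      Nat.prime_two.factorization_pow]
    simp [Nat.factorization_eq_zero_of_not_dvd (show ¬ 2 ∣ 21 by norm_num)])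
  obtain ⟨u, hu⟩ := MulAction.exists_smul_eq Γ P U
  have hmove : ∀ x ∈ D, u * x * u⁻¹ ∈ upper := fun x hx => by
    have h1 : u * x * u⁻¹ ∈ (U : Subgroup Γ) := by
      rw [← hu, Sylow.coe_subgroup_smul, Subgroup.mem_smul_pointwise_iff_exists]
      exact ⟨x, hP hx, rfl⟩
    rwa [Sylow.coe_ofCard] at h1
  have hfD : f ∈ D := ⟨0, Or.inr (by rw [pow_zero, one_mul])⟩
  have hgD : g ∈ D := by
    have h4 : σ ^ 4 = 1 := by rw [show 4 = 2 + 2 from rfl, pow_add, pow_two, hσd, he]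
    refine ⟨3, Or.inr ?_⟩
    rw [show σ ^ 3 = σ⁻¹ from (inv_eq_of_mul_eq_one_right (by rw [← pow_succ', h4])).symm, hσd,
      _root_.mul_inv_rev, inv_eq_of_mul_eq_one_right hf, inv_eq_of_mul_eq_one_right hg, mul_assoc, hf, mul_one]
  obtain ⟨x, y, z, hx⟩ := hmove f hfD
  obtain ⟨x', y', z', hx'⟩ := hmove g hgD
  have hxx : tri x y z * tri x y z = 1 := by
    rw [hx, ← map_one (MulAut.conj u), ← hf, map_mul]; rfl
  have hxx' : tri x' y' z' * tri x' y' z' = 1 := by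
    rw [hx', ← map_one (MulAut.conj u), ← hg, map_mul]; rfl
  obtain ⟨c, hc⟩ : ∃ c, c = x * z' + x' * z := ⟨_, rfl⟩
  have hσu : u * (f * g * (f * g)) * u⁻¹ = tri 0 c 0 := by
    have h2 := add_self_zero
    calc u * (f * g * (f * g)) * u⁻¹
        = (u * f * u⁻¹) * (u * g * u⁻¹) * ((u * f * u⁻¹) * (u * g * u⁻¹)) := by group
      _ = tri 0 c 0 := by
        rw [← hx, ← hx', tri_mul, tri_mul, h2, h2]
        congr 1
        have hxz : ∀ {x y z : ZMod 2}, tri x y z * tri x y z = 1 → x * z = 0 := by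
          intro x y z h
          have := congrArg (fun m : Γ => (m : Matrix (Fin 3) (Fin 3) (ZMod 2)) 0 2) h
          rw [tri_mul] at this
          simpa [tri, h2] using this
        rw [hc]
        exact sq_entry x z x' z' (hxz hxx) (hxz hxx')
        exact h2 _
  have hc1 : c = 1 := by
    refine eq_one_of_ne c fun hc0 => he1 ?_
    rw [hc0] at hσu
    have h0 : tri 0 0 0 = 1 := Subtype.ext (by ext i j; fin_cases i <;> fin_cases j <;> simp [tri])
    rw [h0] at hσu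
    simpa using hσu
  have hne : x * z' ≠ x' * z := fun h => by
    rw [hc, h] at hc1
    rw [add_self_zero] at hc1
    exact zero_ne_one hc1
  obtain ⟨d, -, hdet, hdd, hdf, hdg, hde⟩ := exists_opposite_upper x y z x' y' z'
    (isOne_iff.2 (congrArg Subtype.val hxx)) (isOne_iff.2 (congrArg Subtype.val hxx')) hne
  rw [isOne_iff] at hdd hdf hdg hde
  obtain ⟨D', hD'⟩ : ∃ D' : Γ, D' = ⟨d, hdet⟩ := ⟨_, rfl⟩
  have cube : ∀ {w v : Γ}, tri x y z = tri x y z → u * w * u⁻¹ = v →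
      D' * v * (D' * v) * (D' * v) = 1 → (u⁻¹ * D' * u * w) ^ 3 = 1 := fun {w v} _ hw h => by
    rw [pow_succ, pow_two]
    calc u⁻¹ * D' * u * w * (u⁻¹ * D' * u * w) * (u⁻¹ * D' * u * w)
        = u⁻¹ * (D' * (u * w * u⁻¹) * (D' * (u * w * u⁻¹)) * (D' * (u * w * u⁻¹))) * u := by group
      _ = 1 := by rw [hw, h]; group
  refine ⟨u⁻¹ * D' * u, ?_, cube rfl hx.symm (Subtype.ext (by rw [hD']; exact hdf)),
    cube rfl hx'.symm (Subtype.ext (by rw [hD']; exact hdg)),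
    cube rfl (hσu.trans (by rw [hc1])) (Subtype.ext (by rw [hD']; exact hde))⟩
  calc u⁻¹ * D' * u * (u⁻¹ * D' * u) = u⁻¹ * (D' * D') * u := by group
    _ = 1 := by rw [show D' * D' = 1 from Subtype.ext (by rw [hD']; exact hdd)]; group

end CfsgLib.Recog.HeldType.SLThreeTwo
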