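import Cfsg.Agent.Lib.CIT.SimpleTI
import Cfsg.Agent.Lib.CIT.AlmostSimpleExamples
import Cfsg.Agent.Lib.CIT.SuzukiRecog.Iso
import Cfsg.Agent.Lib.Classical.PSLThreeFour

/-!
# An involutory automorphism of `PSL(3, 4)` fixing a Sylow 3-subgroup has a big centraliser

`N(P)/P` is quaternion for a Sylow 3-subgroup `P`; so the fixed group of an involutory automorphism fixing `P`
pointwise cannot have an involution whose centraliser in it is dihedral of order eight.
-/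

set_option autoImplicit false
set_option linter.all false

set_option maxHeartbeats 1000000

namespace CfsgLib.Recog.HeldType.FixedNine

open Subgroup Matrix
open scoped MatrixGroups
open CfsgLib.CIT (CIT)

section Nine

variable {X : Type*} [Group X]

/-- The products `a^i b^j`. -/
def nine {a b : X} (hab : Commute a b) : (zpowers a × zpowers b) →* X :=
  MonoidHom.noncommCoprod (zpowers a).subtype (zpowers b).subtype fun m n => by
    obtain ⟨i, hi⟩ := mem_zpowers_iff.1 m.2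
    obtain ⟨j, hj⟩ := mem_zpowers_iff.1 n.2
    show Commute (m : X) (n : X)
    rw [← hi, ← hj]
    exact (hab.zpow_left i).zpow_right j

theorem nine_facts {a b : X} (hab : Commute a b) (ha : a ^ 3 = 1) (hb : b ^ 3 = 1) (ha1 : a ≠ 1) (hb1 : b ≠ 1)
    (hba : b ≠ a) (hba2 : b ≠ a * a) :
    Nat.card (nine hab).range = 9 ∧ a ∈ (nine hab).range ∧ b ∈ (nine hab).range ∧
      ∀ K : Subgroup X, a ∈ K → b ∈ K → (nine hab).range ≤ K := by
  haveI : Fact (Nat.Prime 3) := ⟨Nat.prime_three⟩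
  have oa : orderOf a = 3 := orderOf_eq_prime ha ha1
  have ob : orderOf b = 3 := orderOf_eq_prime hb hb1
  have happ : ∀ (m : zpowers a) (n : zpowers b), nine hab (m, n) = (m : X) * n := fun m n => rfl
  have hinj : Function.Injective (nine hab) := by
    rw [injective_iff_map_eq_one]
    rintro ⟨m, n⟩ h
    rw [happ] at h
    obtain ⟨i, hi⟩ := mem_zpowers_iff.1 m.2
    have hn : (n : X) ∈ zpowers a := by
      rw [eq_inv_of_mul_eq_one_right h]; exact inv_mem m.2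
    have hn1 : (n : X) = 1 := by
      by_contra hne
      have ho : orderOf (n : X) = 3 := by
        obtain ⟨j, hj⟩ := mem_zpowers_iff.1 n.2
        refine orderOf_eq_prime ?_ hne
        rw [← hj, ← zpow_natCast, ← _root_.zpow_mul, mul_comm, _root_.zpow_mul, zpow_natCast, hb, _root_.one_zpow]
      have h1 : zpowers (n : X) = zpowers b := by
        haveI : Finite (zpowers b) := Nat.finite_of_card_ne_zero (by rw [Nat.card_zpowers, ob]; omega)
        exact eq_of_le_of_card_ge (zpowers_le.2 n.2) (by rw [Nat.card_zpowers, Nat.card_zpowers, ho, ob])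
      have hb' : b ∈ zpowers a := (zpowers_le.2 hn) (h1.symm.le (mem_zpowers b))
      obtain ⟨k, hk⟩ := mem_zpowers_iff.1 hb'
      rw [← zpow_mod_orderOf, oa] at hk
      have hk3 : k % ((3 : ℕ) : ℤ) = 0 ∨ k % ((3 : ℕ) : ℤ) = 1 ∨ k % ((3 : ℕ) : ℤ) = 2 := by omega
      rcases hk3 with e | e | e <;> rw [e] at hk
      · exact hb1 (by simpa using hk.symm)
      · exact hba (by simpa using hk.symm)
      · exact hba2 (by rw [← hk, zpow_ofNat, pow_two])
    refine Prod.ext (Subtype.ext ?_) (Subtype.ext hn1)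
    rw [hn1, mul_one] at h
    exact h
  refine ⟨?_, ⟨(⟨a, mem_zpowers a⟩, 1), by rw [happ]; simp⟩, ⟨(1, ⟨b, mem_zpowers b⟩), by rw [happ]; simp⟩, ?_⟩
  · rw [← Nat.card_congr (MonoidHom.ofInjective hinj).toEquiv, Nat.card_prod, Nat.card_zpowers, Nat.card_zpowers,
      oa, ob]
  · rintro K haK hbK x ⟨⟨m, n⟩, rfl⟩
    rw [happ]
    exact mul_mem (zpowers_le.2 haK m.2) (zpowers_le.2 hbK n.2)

/-- Elements inducing a quaternion group on an elementary group of order nine. -/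
def QData (X : Type*) [Group X] : Prop :=
  ∃ A B f h : X, A ^ 3 = 1 ∧ B ^ 3 = 1 ∧ A * B = B * A ∧ A ≠ 1 ∧ B ≠ 1 ∧ B ≠ A ∧ B ≠ A * A ∧
    f * A * f⁻¹ = B ∧ f * B * f⁻¹ = A⁻¹ ∧ h * A * h⁻¹ = A * B ∧ h * B * h⁻¹ = A * B⁻¹

theorem QData.congr {Y : Type*} [Group Y] (e : X ≃* Y) (H : QData X) : QData Y := by
  obtain ⟨A, B, f, h, h1, h2, h3, h4, h5, h6, h7, h8, h9, h10, h11⟩ := H
  exact ⟨e A, e B, e f, e h, by rw [← map_pow, h1, map_one], by rw [← map_pow, h2, map_one],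
    by rw [← map_mul, h3, map_mul], fun he => h4 (e.injective (he.trans e.map_one.symm)),
    fun he => h5 (e.injective (he.trans e.map_one.symm)), fun he => h6 (e.injective he),
    fun he => h7 (e.injective (he.trans (map_mul e A A).symm)),
    by rw [← map_inv, ← map_mul, ← map_mul, h8], by rw [← map_inv, ← map_mul, ← map_mul, h9, map_inv],
    by rw [← map_inv, ← map_mul, ← map_mul, h10, map_mul],
    by rw [← map_inv, ← map_mul, ← map_mul, h11, map_mul, map_inv]⟩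

end Nine

theorem qData_psl {F : Type*} [Field F] [Fintype F] (hF : Fintype.card F = 4) :
    QData (ProjectiveSpecialLinearGroup (Fin 3) F) := by
  classical
  have h4 : ∀ x : F, x ^ 4 = x := fun x => hF ▸ FiniteField.pow_card x
  have h2 : (2 : F) = 0 := by
    have h : (4 : F) = 0 := by
      rw [show (4 : F) = ((Fintype.card F : ℕ) : F) by rw [hF]; norm_num, Nat.cast_card_eq_zero]
    rcases mul_eq_zero.1 (show (2 : F) * 2 = 0 by rw [← h]; norm_num) with e | e <;> exact e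
  obtain ⟨w, -, hw⟩ := Finset.exists_mem_notMem_of_card_lt_card (s := ({0, 1} : Finset F))
    (t := Finset.univ) (Finset.card_le_two.trans_lt (by rw [Finset.card_univ, hF]; norm_num))
  simp at hw
  have hw2 : w * w = w + 1 := by
    have h : w * (w - 1) * (w * w + w + 1) = 0 := by linear_combination h4 w
    have := (mul_eq_zero.1 h).resolve_left (mul_ne_zero hw.1 (sub_ne_zero.2 hw.2))
    linear_combination this - (w + 1) * h2
  let A : SL(3, F) := ⟨!![1, 0, 0; 0, w, 0; 0, 0, w * w], by simp [det_fin_three]; grind⟩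
  let B : SL(3, F) := ⟨!![0, 1, 0; 0, 0, 1; 1, 0, 0], by simp [det_fin_three]⟩
  let W : SL(3, F) := ⟨!![1, 1, 1; 1, w, w * w; 1, w * w, w], by simp [det_fin_three]; grind⟩
  let H : SL(3, F) := ⟨!![1, 1, w; 1, w, 1; w * w, w, w], by simp [det_fin_three]; grind⟩
  have hAm : (A : Matrix (Fin 3) (Fin 3) F) = !![1, 0, 0; 0, w, 0; 0, 0, w * w] := rfl
  have hBm : (B : Matrix (Fin 3) (Fin 3) F) = !![0, 1, 0; 0, 0, 1; 1, 0, 0] := rfl
  have hWm : (W : Matrix (Fin 3) (Fin 3) F) = !![1, 1, 1; 1, w, w * w; 1, w * w, w] := rfl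
  have hHm : (H : Matrix (Fin 3) (Fin 3) F) = !![1, 1, w; 1, w, 1; w * w, w, w] := rfl
  let π : SL(3, F) →* ProjectiveSpecialLinearGroup (Fin 3) F := QuotientGroup.mk' _
  have hsc : ∀ (X Y : SL(3, F)) (c : F), c ^ 3 = 1 → (X : Matrix (Fin 3) (Fin 3) F) = c • (Y : Matrix (Fin 3) (Fin 3) F) →
      π X = π Y := by
    intro X Y c hc hX
    refine (QuotientGroup.eq_iff_div_mem).2 ?_
    rw [Matrix.SpecialLinearGroup.mem_center_iff]
    refine ⟨c, by simpa using hc, ?_⟩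
    have hm : ((X / Y : SL(3, F)) : Matrix (Fin 3) (Fin 3) F) * Y = (X : Matrix (Fin 3) (Fin 3) F) := by
      rw [← Matrix.SpecialLinearGroup.coe_mul, div_mul_cancel]
    have h1 : ((Y * Y⁻¹ : SL(3, F)) : Matrix (Fin 3) (Fin 3) F) = 1 := by
      rw [mul_inv_cancel, Matrix.SpecialLinearGroup.coe_one]
    rw [Matrix.SpecialLinearGroup.coe_mul] at h1
    rw [div_eq_mul_inv, Matrix.SpecialLinearGroup.coe_mul, hX, Matrix.smul_mul, h1]
    simp [Matrix.smul_one_eq_diagonal]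
  have hns : ∀ X : SL(3, F), (∃ i j : Fin 3, i ≠ j ∧ (X : Matrix (Fin 3) (Fin 3) F) i j ≠ 0) ∨
      (X : Matrix (Fin 3) (Fin 3) F) 0 0 ≠ (X : Matrix (Fin 3) (Fin 3) F) 1 1 →
      (X : ProjectiveSpecialLinearGroup (Fin 3) F) ≠ 1 := by
    intro X h he
    rw [QuotientGroup.eq_one_iff, Matrix.SpecialLinearGroup.mem_center_iff] at he
    obtain ⟨c, -, hX⟩ := he
    rw [← hX] at h
    rcases h with ⟨i, j, hij, h⟩ | h
    · exact h (by simp [hij])
    · exact h (by simp)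
  have hA3 : A ^ 3 = 1 := by
    apply Matrix.SpecialLinearGroup.ext
    intro i j
    fin_cases i <;> fin_cases j <;> simp [hAm, pow_succ, Matrix.mul_apply, Fin.sum_univ_three] <;> grind
  have hB3 : B ^ 3 = 1 := by
    apply Matrix.SpecialLinearGroup.ext
    intro i j
    fin_cases i <;> fin_cases j <;> simp [hBm, pow_succ, Matrix.mul_apply, Fin.sum_univ_three]
  have hAi : A⁻¹ = A * A := inv_eq_of_mul_eq_one_right (by rw [← hA3]; simp [pow_succ, mul_assoc])
  have hBi : B⁻¹ = B * B := inv_eq_of_mul_eq_one_right (by rw [← hB3]; simp [pow_succ, mul_assoc])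
  have key : ∀ {U V T : SL(3, F)}, π (U * V) = π (T * U) → π U * π V * (π U)⁻¹ = π T := fun {U V T} h => by
    rw [mul_inv_eq_iff_eq_mul, ← map_mul, ← map_mul, h]
  refine ⟨π A, π B, π W, π H, by rw [← map_pow, hA3, map_one], by rw [← map_pow, hB3, map_one], ?_,
    hns A (Or.inr ?_), hns B (Or.inl ⟨0, 1, by decide, by simp [hBm]⟩), fun he => ?_, fun he => ?_, ?_, ?_, ?_, ?_⟩
  · rw [← map_mul, ← map_mul]
    refine hsc _ _ (w * w) (by grind) ?_
    ext i j
    fin_cases i <;> fin_cases j <;> simp [hAm, hBm, Matrix.mul_apply, Fin.sum_univ_three] <;> grind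
  · simpa [hAm] using fun h => hw.2 h.symm
  · refine hns (A⁻¹ * B) (Or.inl ⟨0, 1, by decide, ?_⟩) (by
      show π (A⁻¹ * B) = 1
      rw [map_mul, map_inv, he, inv_mul_cancel])
    simp [hAi, hAm, hBm, Matrix.mul_apply, Fin.sum_univ_three]
  · refine hns (A * B) (Or.inl ⟨0, 1, by decide, ?_⟩) (by
      show π (A * B) = 1
      rw [map_mul, he, ← map_mul, ← map_mul, ← mul_assoc, show A * A * A = 1 by rw [← hA3]; simp [pow_succ], map_one])
    simp [hAm, hBm, Matrix.mul_apply, Fin.sum_univ_three]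
  · refine key (hsc _ _ 1 (one_pow 3) ?_)
    ext i j
    fin_cases i <;> fin_cases j <;> simp [hAm, hBm, hWm, Matrix.mul_apply, Fin.sum_univ_three] <;> grind
  · rw [← map_inv π A]
    refine key (hsc _ _ 1 (one_pow 3) ?_)
    rw [hAi]
    ext i j
    fin_cases i <;> fin_cases j <;> simp [hAm, hBm, hWm, Matrix.mul_apply, Fin.sum_univ_three] <;> grind
  · rw [← map_mul π A B]
    refine key (hsc _ _ 1 (one_pow 3) ?_)
    ext i j
    fin_cases i <;> fin_cases j <;> simp [hAm, hBm, hHm, Matrix.mul_apply, Fin.sum_univ_three] <;> grind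
  · rw [← map_inv π B, ← map_mul π A B⁻¹]
    refine key (hsc _ _ (w * w) (by grind) ?_)
    rw [hBi]
    ext i j
    fin_cases i <;> fin_cases j <;> simp [hAm, hBm, hHm, Matrix.mul_apply, Fin.sum_univ_three] <;> grind

theorem d8_no_quaternion : ∀ x y : DihedralGroup 4, x * x = y * y → x * x ≠ 1 → x * y = y * x := by
  decide +kernel

variable {L : Type*} [Group L] [Finite L]

theorem odd_of_commute_nine (hC : CIT L) {A : L} (hA : A ^ 3 = 1) (hA1 : A ≠ 1) {q : L} (h : Commute q A) :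
    Odd (orderOf q) := by
  rw [← Nat.not_even_iff_odd, even_iff_two_dvd]
  intro h2
  have ho : orderOf (q ^ (orderOf q / 2)) = 2 := orderOf_pow_orderOf_div (orderOf_pos q).ne' h2
  have hodd : Odd (orderOf A) := (by norm_num : Odd 3).of_dvd_nat (orderOf_dvd_of_pow_eq_one hA)
  have := hC.eq_one hodd hA1 (k := 1) (by rw [ho, pow_one]) (h.pow_left _).symm.eq
  rw [this, orderOf_one] at ho
  omega

/-- No involutory automorphism of `PSL(3, 4)` fixes a group of order nine pointwise and has, in its fixed group,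
an involution with centraliser inside a dihedral group of order eight. -/
theorem false_of_fixed (hC : CIT L) (hL : CIT.IsPSLThreeFour L) (σ : MulAut L) (hσ : ∀ x, σ (σ x) = x)
    {a b : L} (ha : a ^ 3 = 1) (hb : b ^ 3 = 1) (hab : a * b = b * a) (ha1 : a ≠ 1) (hb1 : b ≠ 1) (hba : b ≠ a)
    (hba2 : b ≠ a * a) (hsa : σ a = a) (hsb : σ b = b) {e : L} (he1 : e ≠ 1) (S : Subgroup L)
    (hS : ∀ x : L, (σ x = x ∧ Commute x e) ↔ x ∈ S) (eS : Nonempty (S ≃* DihedralGroup 4))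
    (heS : e ∈ S) : False := by
  classical
  haveI : Fact (Nat.Prime 3) := ⟨Nat.prime_three⟩
  haveI : Fact (Nat.Prime 2) := ⟨Nat.prime_two⟩
  obtain ⟨F, _, _, hF, ⟨φ⟩⟩ := hL
  obtain ⟨A₀, B₀, f₀, h₀, q1, q2, q3, q4, q5, q6, q7, q8, q9, q10, q11⟩ := (qData_psl hF).congr φ.symm
  obtain ⟨eS⟩ := eS
  -- move the data to `⟨a, b⟩`
  obtain ⟨hP, haP, hbP, -⟩ := nine_facts hab ha hb ha1 hb1 hba hba2
  obtain ⟨hP', -, -, -⟩ := nine_facts q3 q1 q2 q4 q5 q6 q7
  obtain ⟨P, hPd⟩ : ∃ P, P = (nine hab).range := ⟨_, rfl⟩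
  rw [← hPd] at hP haP hbP
  have hsyl : ∀ K : Subgroup L, Nat.card K = 9 → ∃ S' : Sylow 3 L, (S' : Subgroup L) = K := by
    intro K hK
    obtain ⟨S', hS'⟩ := (IsPGroup.of_card (n := 2) (by rw [hK]; norm_num) : IsPGroup 3 K).exists_le_sylow
    refine ⟨S', (eq_of_le_of_card_ge hS' ?_).symm⟩
    obtain ⟨k, hk⟩ := IsPGroup.iff_card.1 S'.isPGroup'
    have hd : 3 ^ k ∣ 20160 := by
      rw [← hk, ← CfsgLib.CIT.SuzukiRecog.card_psl_three_four hF, ← Nat.card_congr φ.toEquiv]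
      exact card_subgroup_dvd_card _
    rw [hK, hk]
    calc 3 ^ k ≤ 3 ^ 2 := Nat.pow_le_pow_right (by norm_num) (by
          by_contra hk3
          exact absurd ((pow_dvd_pow 3 (show 3 ≤ k by omega)).trans hd) (by norm_num))
      _ = 9 := by norm_num
  obtain ⟨S₁, hS₁⟩ := hsyl _ hP'
  obtain ⟨S₂, hS₂⟩ := hsyl _ hP
  obtain ⟨g, hg⟩ := MulAction.exists_smul_eq L S₁ S₂
  have hgP : ∀ x ∈ (nine q3).range, g * x * g⁻¹ ∈ P := fun x hx => by
    rw [← hS₂, ← hg, Sylow.coe_subgroup_smul, Subgroup.mem_smul_pointwise_iff_exists]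
    exact ⟨x, hS₁.symm ▸ hx, rfl⟩
  obtain ⟨-, hA₀, hB₀, -⟩ := nine_facts q3 q1 q2 q4 q5 q6 q7
  obtain ⟨A, hAd⟩ : ∃ A, A = g * A₀ * g⁻¹ := ⟨_, rfl⟩
  obtain ⟨B, hBd⟩ : ∃ B, B = g * B₀ * g⁻¹ := ⟨_, rfl⟩
  have hAP : A ∈ P := hAd ▸ hgP _ hA₀
  have hBP : B ∈ P := hBd ▸ hgP _ hB₀
  have hAB : A * B = B * A := by
    rw [hAd, hBd]
    calc g * A₀ * g⁻¹ * (g * B₀ * g⁻¹) = g * (A₀ * B₀) * g⁻¹ := by group
      _ = g * B₀ * g⁻¹ * (g * A₀ * g⁻¹) := by rw [q3]; group
  have cube : ∀ {x : L}, x ^ 3 = 1 → (g * x * g⁻¹) ^ 3 = 1 := fun {x} h => by rw [conj_pow, h]; group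
  have cne : ∀ {x y : L}, x ≠ y → g * x * g⁻¹ ≠ g * y * g⁻¹ := fun h e => h (by simpa using e)
  have hA1 : A ≠ 1 := hAd ▸ fun h => q4 (conj_eq_one_iff.1 h)
  have hB1 : B ≠ 1 := hBd ▸ fun h => q5 (conj_eq_one_iff.1 h)
  have hA3 : A ^ 3 = 1 := hAd ▸ cube q1
  have hB3 : B ^ 3 = 1 := hBd ▸ cube q2
  have hBA : B ≠ A := hAd ▸ hBd ▸ cne q6
  have hBA2 : B ≠ A * A := by
    rw [hAd, hBd, show g * A₀ * g⁻¹ * (g * A₀ * g⁻¹) = g * (A₀ * A₀) * g⁻¹ by group]
    exact cne q7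
  obtain ⟨hPAB, hAr, hBr, hle⟩ := nine_facts hAB hA3 hB3 hA1 hB1 hBA hBA2
  have hPeq : (nine hAB).range = P := eq_of_le_of_card_ge (hle P hAP hBP) (by rw [hP, hPAB])
  have hPle : ∀ K : Subgroup L, A ∈ K → B ∈ K → P ≤ K := fun K h1 h2 => hPeq ▸ hle K h1 h2
  -- fixed points on `P`
  let Fx : Subgroup L :=
    { carrier := {x | σ x = x}
      mul_mem' := fun {x y} hx hy => show σ (x * y) = x * y by
        rw [map_mul, show σ x = x from hx, show σ y = y from hy]
      one_mem' := map_one σ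
      inv_mem' := fun {x} hx => show σ x⁻¹ = x⁻¹ by rw [map_inv, show σ x = x from hx] }
  have hFP : P ≤ Fx := by
    obtain ⟨-, -, -, h⟩ := nine_facts hab ha hb ha1 hb1 hba hba2
    exact hPd ▸ h Fx hsa hsb
  -- fixed elements with the prescribed action
  have lift : ∀ n : L, n * A * n⁻¹ ∈ P → n * B * n⁻¹ ∈ P → ∃ n', σ n' = n' ∧
      n' * A * n'⁻¹ = n * A * n⁻¹ ∧ n' * B * n'⁻¹ = n * B * n⁻¹ := by
    intro n hnA hnB
    obtain ⟨q, hq⟩ : ∃ q, q = n⁻¹ * σ n := ⟨_, rfl⟩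
    have hcomm : ∀ {x : L}, x ∈ P → n * x * n⁻¹ ∈ P → q * x * q⁻¹ = x := fun {x} hx hnx => by
      have h1 : σ (n * x * n⁻¹) = n * x * n⁻¹ := hFP hnx
      rw [map_mul, map_mul, map_inv, show σ x = x from hFP hx] at h1
      calc q * x * q⁻¹ = n⁻¹ * (σ n * x * (σ n)⁻¹) * n := by rw [hq]; group
        _ = x := by rw [h1]; group
    have cA : Commute q A := mul_inv_eq_iff_eq_mul.1 (hcomm hAP hnA)
    have cB : Commute q B := mul_inv_eq_iff_eq_mul.1 (hcomm hBP hnB)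
    obtain ⟨m, hm⟩ := odd_of_commute_nine hC hA3 hA1 cA
    have hsq : σ q = q⁻¹ := by rw [hq, map_mul, map_inv, hσ]; group
    have hqm : q ^ (m + 1) * q ^ m = 1 := by
      rw [← pow_add, show m + 1 + m = orderOf q by omega, pow_orderOf_eq_one]
    refine ⟨n * q ^ (m + 1), ?_, ?_, ?_⟩
    · rw [map_mul, map_pow, hsq, show σ n = n * q by rw [hq]; group, inv_pow, mul_assoc]
      congr 1
      rw [mul_inv_eq_iff_eq_mul, ← pow_add, show m + 1 + (m + 1) = orderOf q + 1 by omega, pow_succ,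
        pow_orderOf_eq_one, one_mul]
    · calc n * q ^ (m + 1) * A * (n * q ^ (m + 1))⁻¹ = n * (q ^ (m + 1) * A * (q ^ (m + 1))⁻¹) * n⁻¹ := by group
        _ = n * A * n⁻¹ := by rw [(cA.pow_left _).eq, mul_inv_cancel_right]
    · calc n * q ^ (m + 1) * B * (n * q ^ (m + 1))⁻¹ = n * (q ^ (m + 1) * B * (q ^ (m + 1))⁻¹) * n⁻¹ := by group
        _ = n * B * n⁻¹ := by rw [(cB.pow_left _).eq, mul_inv_cancel_right]
  have conj' : ∀ {x y z : L}, x * y * x⁻¹ = z → g * x * g⁻¹ * (g * y * g⁻¹) * (g * x * g⁻¹)⁻¹ = g * z * g⁻¹ :=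
    fun {x y z} h => by rw [← h]; group
  have fA : g * f₀ * g⁻¹ * A * (g * f₀ * g⁻¹)⁻¹ = B := by rw [hAd, hBd]; exact conj' q8
  have fB : g * f₀ * g⁻¹ * B * (g * f₀ * g⁻¹)⁻¹ = A⁻¹ := by
    rw [hAd, hBd, conj' q9]; group
  have hA' : g * h₀ * g⁻¹ * A * (g * h₀ * g⁻¹)⁻¹ = A * B := by
    rw [hAd, hBd, conj' q10]; group
  have hB' : g * h₀ * g⁻¹ * B * (g * h₀ * g⁻¹)⁻¹ = A * B⁻¹ := by
    rw [hAd, hBd, conj' q11]; group
  obtain ⟨f, sf, fA', fB'⟩ := lift _ (by rw [fA]; exact hBP) (by rw [fB]; exact inv_mem hAP)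
  obtain ⟨h, sh, hA'', hB''⟩ := lift _ (by rw [hA']; exact mul_mem hAP hBP)
    (by rw [hB']; exact mul_mem hAP (inv_mem hBP))
  rw [fA] at fA'; rw [fB] at fB'; rw [hA'] at hA''; rw [hB'] at hB''
  -- the action of the fixed normaliser
  have hnorm : ∀ {n : L}, n * A * n⁻¹ ∈ P → n * B * n⁻¹ ∈ P → n ∈ normalizer (P : Set L) := fun {n} h1 h2 => by
    have hle' : P ≤ P.comap (MulAut.conj n).toMonoidHom := hPle _ h1 h2
    have heq : P.map (MulAut.conj n).toMonoidHom = P := by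
      refine eq_of_le_of_card_ge (map_le_iff_le_comap.2 hle') ?_
      rw [card_map_of_injective (MulAut.conj n).injective]
    rw [mem_normalizer_iff]
    intro x
    constructor
    · exact fun hx => hle' hx
    · intro hx
      have : n * x * n⁻¹ ∈ P.map (MulAut.conj n).toMonoidHom := heq.symm ▸ hx
      obtain ⟨y, hy, hyx⟩ := this
      have hyx' : n * y * n⁻¹ = n * x * n⁻¹ := hyx
      rw [show x = y by simpa using hyx'.symm]
      exact hy
  let M : Subgroup L := Fx ⊓ normalizer (P : Set L)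
  let ρ : M →* MulAut P := P.normalizerMonoidHom.comp (inclusion inf_le_right)
  have ρapp : ∀ (m : M) (x : P), ((ρ m x : P) : L) = (m : L) * x * (m : L)⁻¹ := fun m x => rfl
  have ρext : ∀ {u v : MulAut P}, u ⟨A, hAP⟩ = v ⟨A, hAP⟩ → u ⟨B, hBP⟩ = v ⟨B, hBP⟩ → u = v := by
    intro u v h1 h2
    let E : Subgroup P := u.toMonoidHom.eqLocus v.toMonoidHom
    have hE : P ≤ E.map P.subtype := hPle _ ⟨_, h1, rfl⟩ ⟨_, h2, rfl⟩
    ext x
    obtain ⟨y, hy, hyx⟩ := hE x.2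
    rw [show x = y from Subtype.ext hyx.symm]
    exact congrArg Subtype.val hy
  have hfM : f ∈ M := ⟨sf, hnorm (by rw [fA']; exact hBP) (by rw [fB']; exact inv_mem hAP)⟩
  have hhM : h ∈ M := ⟨sh, hnorm (by rw [hA'']; exact mul_mem hAP hBP)
    (by rw [hB'']; exact mul_mem hAP (inv_mem hBP))⟩
  obtain ⟨I, hI⟩ : ∃ I, I = ρ ⟨f, hfM⟩ := ⟨_, rfl⟩
  obtain ⟨J, hJ⟩ : ∃ J, J = ρ ⟨h, hhM⟩ := ⟨_, rfl⟩
  have IA : I ⟨A, hAP⟩ = ⟨B, hBP⟩ := Subtype.ext (by rw [hI, ρapp]; exact fA')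
  have IB : I ⟨B, hBP⟩ = ⟨A, hAP⟩⁻¹ := Subtype.ext (by rw [hI, ρapp]; exact fB')
  have JA : J ⟨A, hAP⟩ = ⟨A, hAP⟩ * ⟨B, hBP⟩ := Subtype.ext (by rw [hJ, ρapp]; exact hA'')
  have JB : J ⟨B, hBP⟩ = ⟨A, hAP⟩ * ⟨B, hBP⟩⁻¹ := Subtype.ext (by rw [hJ, ρapp]; exact hB'')
  obtain ⟨A', hA'd⟩ : ∃ x : P, x = ⟨A, hAP⟩ := ⟨_, rfl⟩
  obtain ⟨B', hB'd⟩ : ∃ x : P, x = ⟨B, hBP⟩ := ⟨_, rfl⟩
  rw [← hA'd, ← hB'd] at IA IB JA JB ρext
  have cAB : Commute A' B' := Subtype.ext (by rw [hA'd, hB'd]; exact hAB)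
  have A3 : A' * A' * A' = 1 := Subtype.ext (by rw [hA'd]; show A * A * A = 1; rw [← hA3, pow_succ, pow_two])
  have B3 : B' * B' * B' = 1 := Subtype.ext (by rw [hB'd]; show B * B * B = 1; rw [← hB3, pow_succ, pow_two])
  have Ai : A'⁻¹ = A' * A' := inv_eq_of_mul_eq_one_right (by rw [← mul_assoc]; exact A3)
  have Bi : B'⁻¹ = B' * B' := inv_eq_of_mul_eq_one_right (by rw [← mul_assoc]; exact B3)
  have II : I * I = J * J := by
    refine ρext ?_ ?_
    · simp only [MulAut.mul_apply, IA, IB, JA, JB, map_mul]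
      calc A'⁻¹ = A' * A' := Ai
        _ = A' * (B' * A') * B'⁻¹ := by rw [← cAB.eq]; group
        _ = _ := by group
    · simp only [MulAut.mul_apply, IA, IB, JA, JB, map_mul, map_inv]
      calc B'⁻¹ = A' * B' * (B' * A'⁻¹) := by rw [← mul_assoc, mul_assoc A' B' B', ← Bi, (cAB.inv_right).eq]; group
        _ = _ := by group
  have II1 : I * I ≠ 1 := fun h1 => by
    have := DFunLike.congr_fun h1 A'
    simp only [MulAut.mul_apply, IA, IB, MulAut.one_apply] at this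
    have h2 : A' * A' * A' = A'⁻¹ * A' * A' := by rw [this]
    rw [A3, inv_mul_cancel, one_mul] at h2
    exact hA1 (by simpa [hA'd] using congrArg Subtype.val h2.symm)
  have JI : J * I = I * J * (I * I) := by
    refine ρext ?_ ?_
    · simp only [MulAut.mul_apply, IA, IB, JA, JB, map_mul, map_inv]
      rw [_root_.mul_inv_rev, inv_inv]
    · simp only [MulAut.mul_apply, IA, IB, JA, JB, map_mul, map_inv]
      rw [inv_inv, cAB.eq]
  have ne : I * J ≠ J * I := fun h1 => II1 (by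
    have := JI
    rw [← h1] at this
    calc I * I = (I * J)⁻¹ * (I * J * (I * I)) := by group
      _ = 1 := by rw [← this, inv_mul_cancel])
  -- the image is a 2-group
  let Q : Subgroup (MulAut P) := closure {I, J}
  have I4 : (I * I) * (I * I) = 1 := by
    refine ρext ?_ ?_ <;> simp [MulAut.mul_apply, IA, IB]
  have cIIJ : Commute (I * I) J := by rw [II]; exact (Commute.refl J).mul_left (Commute.refl J)
  have cIII : Commute (I * I) I := (Commute.refl I).mul_left (Commute.refl I)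
  have hform : ∀ u ∈ Q, ∃ k : ℕ, u = I ^ k ∨ u = I ^ k * J := by
    intro u hu
    have hI4 : I ^ 4 = 1 := by rw [show 4 = 2 + 2 from rfl, pow_add, pow_two]; exact I4
    have hIi : I⁻¹ = I ^ 3 := inv_eq_of_mul_eq_one_right (by rw [← pow_succ', hI4])
    have hJi : J⁻¹ = I * I * J := inv_eq_of_mul_eq_one_right (by
      rw [← mul_assoc, ← cIIJ.eq, mul_assoc, ← II, I4])
    have right : ∀ v, (∃ k : ℕ, v = I ^ k ∨ v = I ^ k * J) →
        (∃ k : ℕ, v * I = I ^ k ∨ v * I = I ^ k * J) ∧ (∃ k : ℕ, v * J = I ^ k ∨ v * J = I ^ k * J) := by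
      rintro v ⟨k, rfl | rfl⟩
      · exact ⟨⟨k + 1, Or.inl (pow_succ I k).symm⟩, ⟨k, Or.inr rfl⟩⟩
      · refine ⟨⟨k + 3, Or.inr ?_⟩, ⟨k + 2, Or.inl ?_⟩⟩
        · rw [mul_assoc, JI, mul_assoc I J, ← cIIJ.eq, pow_add, pow_succ' I 2, pow_two]; simp only [mul_assoc]
        · rw [mul_assoc, ← II, pow_add, pow_two]
    refine closure_induction_right (p := fun v _ => ∃ k : ℕ, v = I ^ k ∨ v = I ^ k * J) ⟨0, Or.inl (pow_zero I).symm⟩
      (fun v y _ hy hv => ?_) (fun v y _ hy hv => ?_) hu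
    · rcases hy with rfl | rfl
      exacts [(right v hv).1, (right v hv).2]
    · rcases hy with rfl | rfl
      · rw [hIi, pow_succ, pow_two, ← mul_assoc, ← mul_assoc]
        exact (right _ (right _ (right v hv).1).1).1
      · rw [hJi, ← mul_assoc, ← mul_assoc]
        exact (right _ (right _ (right v hv).1).1).2
  have hQ2 : IsPGroup 2 Q := fun ⟨u, hu⟩ => ⟨2, Subtype.ext (by
    show u ^ 2 ^ 2 = 1
    have hI4 : I ^ 4 = 1 := by rw [show 4 = 2 + 2 from rfl, pow_add, pow_two]; exact I4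
    obtain ⟨k, rfl | rfl⟩ := hform u hu
    · rw [← pow_mul, mul_comm, pow_mul, show 2 ^ 2 = 4 from rfl, hI4, one_pow]
    · have hflip : ∀ n : ℕ, J * I ^ n = I ^ (3 * n) * J := by
        intro n
        induction n with
        | zero => simp
        | succ n ih =>
          rw [pow_succ, ← mul_assoc, ih, mul_assoc, JI, mul_assoc I J, ← cIIJ.eq, ← mul_assoc I,
            show 3 * (n + 1) = 3 * n + 3 by ring, pow_add, pow_succ' I 2, pow_two]
          simp only [mul_assoc]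
      have h2 : (I ^ k * J) ^ 2 = I * I := by
        rw [pow_two, mul_assoc (I ^ k) J, ← mul_assoc J, hflip, mul_assoc (I ^ (3 * k)), ← II, ← mul_assoc,
          ← pow_add, show k + 3 * k = 4 * k by ring, pow_mul, hI4, one_pow, one_mul]
      rw [show (2 : ℕ) ^ 2 = 2 * 2 from rfl, pow_mul, h2, pow_two, I4])⟩
  -- a Sylow 2-subgroup of the preimage
  let M' : Subgroup M := Q.comap ρ
  let ρ' : M' →* Q := ρ.subgroupComap Q
  have hρ' : Function.Surjective ρ' := by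
    rintro ⟨u, hu⟩
    have hle : Q ≤ ρ.range := by
      rw [closure_le]
      rintro x (rfl | rfl)
      exacts [⟨_, hI.symm⟩, ⟨_, hJ.symm⟩]
    obtain ⟨m, hm⟩ := hle hu
    exact ⟨⟨m, show ρ m ∈ Q from hm ▸ hu⟩, Subtype.ext hm⟩
  obtain ⟨T⟩ : Nonempty (Sylow 2 M') := inferInstance
  have hT : (T : Subgroup M').map ρ' = ⊤ := by
    have hT1 := (T.mapSurjective hρ').3 (hQ2.of_equiv (Subgroup.topEquiv (G := Q)).symm) le_top
    exact hT1.symm
  obtain ⟨xI, hxI, hxI'⟩ : ∃ x ∈ (T : Subgroup M'), ρ' x = ⟨I, subset_closure (by simp)⟩ :=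
    mem_map.1 (hT ▸ mem_top (⟨I, subset_closure (by simp)⟩ : Q))
  obtain ⟨xJ, hxJ, hxJ'⟩ : ∃ x ∈ (T : Subgroup M'), ρ' x = ⟨J, subset_closure (by simp)⟩ :=
    mem_map.1 (hT ▸ mem_top (⟨J, subset_closure (by simp)⟩ : Q))
  let emb : M' →* L := M.subtype.comp M'.subtype
  let T' : Subgroup L := (T : Subgroup M').map emb
  have hT' : IsPGroup 2 T' := T.isPGroup'.map emb
  -- a Sylow 2-subgroup of the fixed group is `S`
  have hSF : S ≤ Fx := fun x hx => ((hS x).2 hx).1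
  have hcenS : ∀ y ∈ S, (∀ x ∈ S, x * y = y * x) → y = 1 ∨ y = e := by
    have hcen : ∀ p q : DihedralGroup 4, (∀ r, r * p = p * r) → (∀ r, r * q = q * r) → p ≠ 1 → q ≠ 1 → p = q := by
      decide +kernel
    intro y hy hcy
    by_cases hy1 : y = 1
    · exact Or.inl hy1
    refine Or.inr (congrArg Subtype.val (eS.injective (hcen (eS ⟨y, hy⟩) (eS ⟨e, heS⟩) (fun r => ?_) (fun r => ?_)
      (fun h => hy1 (congrArg Subtype.val (eS.map_eq_one_iff.1 h)))
      (fun h => he1 (congrArg Subtype.val (eS.map_eq_one_iff.1 h))))))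
    all_goals
      obtain ⟨⟨r, hr⟩, rfl⟩ := eS.surjective r
      rw [← map_mul, ← map_mul]
      congr 1
      refine Subtype.ext ?_
    · exact hcy r hr
    · exact ((hS r).2 hr).2.eq
  have hS2 : IsPGroup 2 (S.subgroupOf Fx) := by
    refine (IsPGroup.of_card (n := 3) ?_)
    rw [Nat.card_congr (subgroupOfEquivOfLe hSF).toEquiv, Nat.card_congr eS.toEquiv, DihedralGroup.nat_card]
    norm_num
  obtain ⟨U, hU⟩ := hS2.exists_le_sylow
  have hUS : (U : Subgroup Fx) ≤ S.subgroupOf Fx := by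
    have heU : (⟨e, hSF heS⟩ : Fx) ∈ (U : Subgroup Fx) := hU (mem_subgroupOf.2 heS)
    haveI : Nontrivial (U : Subgroup Fx) :=
      ⟨⟨⟨_, heU⟩, 1, fun h => he1 (congrArg (fun z : (U : Subgroup Fx) => ((z : Fx) : L)) h)⟩⟩
    haveI := U.2.center_nontrivial
    obtain ⟨⟨⟨y, hyU⟩, hyc⟩, hy1⟩ := exists_ne (1 : ↥(center ↥(U : Subgroup Fx)))
    have hy : ∀ x ∈ (U : Subgroup Fx), (x : L) * y = y * x := fun x hx =>
      congrArg (fun z : (U : Subgroup Fx) => ((z : Fx) : L)) (mem_center_iff.1 hyc ⟨x, hx⟩)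
    have hyS : (y : L) ∈ S := (hS y).1 ⟨y.2, (hy _ heU).symm⟩
    have hye : (y : L) = e := (hcenS y hyS fun x hx => hy ⟨x, hSF hx⟩ (hU (mem_subgroupOf.2 hx))).resolve_left
      fun h => hy1 (Subtype.ext (Subtype.ext (Subtype.ext h)))
    exact fun x hx => mem_subgroupOf.2 ((hS x).1 ⟨x.2, hye ▸ hy x hx⟩)
  have hT'F : T' ≤ Fx := by
    rintro _ ⟨m, -, rfl⟩
    exact (m : M).2.1
  obtain ⟨U₂, hU₂⟩ := (hT'.of_equiv (subgroupOfEquivOfLe hT'F).symm).exists_le_sylow
  obtain ⟨u, hu⟩ := MulAction.exists_smul_eq Fx U₂ U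
  let θ : T' →* DihedralGroup 4 := eS.toMonoidHom.comp
    { toFun := fun t => ⟨(u : L) * t * (u : L)⁻¹, by
        have h1 : u * ⟨t, hT'F t.2⟩ * u⁻¹ ∈ (U : Subgroup Fx) := by
          rw [← hu, Sylow.coe_subgroup_smul, Subgroup.mem_smul_pointwise_iff_exists]
          exact ⟨_, hU₂ (mem_subgroupOf.2 t.2), rfl⟩
        simpa [mem_subgroupOf] using hUS h1⟩
      map_one' := Subtype.ext (by simp)
      map_mul' := fun s t => Subtype.ext (by simp [mul_assoc]) }
  have hθ : Function.Injective θ := fun s t h => by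
    have := congrArg Subtype.val (eS.injective h)
    exact Subtype.ext (by simpa using this)
  -- `T'` meets the kernel trivially
  have hinj : ∀ x ∈ (T : Subgroup M'), ρ' x = 1 → x = 1 := by
    intro x hx h1
    have hA : Commute (emb x) A := by
      have h2 : ρ (x : M) = 1 := congrArg Subtype.val h1
      have h3 := congrArg Subtype.val (DFunLike.congr_fun h2 ⟨A, hAP⟩)
      rw [ρapp] at h3
      exact mul_inv_eq_iff_eq_mul.1 h3
    have hodd : Odd (orderOf A) := (by norm_num : Odd 3).of_dvd_nat (orderOf_dvd_of_pow_eq_one hA3)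
    exact Subtype.ext (Subtype.ext (hC.eq_one_of_mem hodd hA1 hT' ⟨x, hx, rfl⟩ hA.symm.eq))
  let tI : T' := ⟨emb xI, xI, hxI, rfl⟩
  let tJ : T' := ⟨emb xJ, xJ, hxJ, rfl⟩
  have e1 : tI * tI = tJ * tJ := by
    refine Subtype.ext ?_
    show emb xI * emb xI = emb xJ * emb xJ
    rw [← map_mul, ← map_mul]
    congr 1
    refine mul_inv_eq_one.1 (hinj _ (mul_mem (mul_mem hxI hxI) (inv_mem (mul_mem hxJ hxJ))) ?_)
    rw [map_mul, map_inv, map_mul, map_mul, hxI', hxJ', mul_inv_eq_one]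
    exact Subtype.ext II
  have e2 : tI * tI ≠ 1 := fun h => II1 (by
    have h' : emb (xI * xI) = emb 1 := by rw [map_mul, map_one]; exact congrArg Subtype.val h
    have := congrArg (fun m : M' => (ρ' m : MulAut P)) (Subtype.ext (Subtype.ext h') : xI * xI = 1)
    simpa [hxI'] using this)
  have e3 : tI * tJ ≠ tJ * tI := fun h => ne (by
    have h' : emb (xI * xJ) = emb (xJ * xI) := by rw [map_mul, map_mul]; exact congrArg Subtype.val h
    have := congrArg (fun m : M' => (ρ' m : MulAut P)) (Subtype.ext (Subtype.ext h') : xI * xJ = xJ * xI)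
    simpa [hxI', hxJ'] using this)
  exact e3 (hθ (by
    rw [map_mul, map_mul]
    exact d8_no_quaternion _ _ (by rw [← map_mul, ← map_mul, e1]) (by
      rw [← map_mul]; exact fun h => e2 (hθ (h.trans (map_one θ).symm)))))

end CfsgLib.Recog.HeldType.FixedNine
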