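import Cfsg.Agent.Lib.Recog.HeldType.Quotient
import Cfsg.Agent.Lib.Recog.HeldType.FixedNine
import Cfsg.Agent.Lib.Recog.HeldType.SLThreeTwo
import Cfsg.Agent.Lib.LocalEvenB.CentralizerDEight
import Cfsg.Agent.Lib.CIT.AlmostSimpleExamples

/-!
# The generator `d` of a group of Held type

`K = C(⟨a, b⟩) ∩ C(V)` has a dihedral involution centraliser `⟨f, g⟩` with `e`, `f` fused, so it is `SL(3, 2)` or
`A₆`; the second is excluded by the action of `(ab)²` on `C(V)/V ≅ PSL(3, 4)`.  In `SL(3, 2)` lies `d`.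
-/

set_option autoImplicit false

namespace CfsgLib.Recog.HeldType

open Subgroup
open CfsgLib.CIT (CIT)

variable {G : Type*} [Group G]

/-- The local data around the four-group `V` of a group of Held type. -/
structure FourData (P : G → Prop) (V : Subgroup G) (a b c f g : G) : Prop where
  hP : ∀ u x, P x → P (u * x * u⁻¹)
  hV : ∀ z ∈ V, z * z = 1
  hV4 : ∃ v : G, ∀ x ∈ V, x = 1 ∨ x = a ∨ x = v ∨ x = v * a
  ha : a ∈ V
  hb2 : b * b = 1
  hab : a * b * (a * b) * (a * b * (a * b)) = 1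
  hsq : ∀ x ∈ centralizer (V : Set G), x ∉ V → x * x ∈ V → x * x = 1
  hcit : ∀ x ∈ centralizer (V : Set G), x ∉ V → x * x ∈ V →
    ∃ z ∈ V, IsPGroup 2 (centralizer (V : Set G) ⊓ centralizer ({x * z} : Set G) : Subgroup G)
  fC : f ∈ centralizer (V : Set G)
  gC : g ∈ centralizer (V : Set G)
  fb : Commute f b
  gb : Commute g b
  hf : f * f = 1
  hg : g * g = 1
  hee : f * g * (f * g) * (f * g * (f * g)) = 1
  heV : f * g * (f * g) ∉ V
  hea : P (f * g * (f * g) * a)
  hKe : ∀ x : G, Commute x a → Commute x b → Commute x (f * g * (f * g)) →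
    ∃ h ∈ closure ({f, g} : Set G), x = h ∨ x = a * b * (a * b) * h
  hfus : ∃ k : G, Commute k a ∧ Commute k b ∧ k * (f * g * (f * g)) * k⁻¹ = f
  hfus' : ∃ k : G, Commute k a ∧ Commute k b ∧ k * (f * g * (f * g)) * k⁻¹ = g
  hNg : ∀ x : G, Commute x a → Commute x b → Commute x g → x ∈ normalizer (V : Set G)
  hNf : ∀ x : G, Commute x a → Commute x b → Commute x f → x ∈ normalizer (V : Set G)
  hzC : a * b * (a * b) ∉ centralizer (V : Set G)
  hzN : a * b * (a * b) ∈ normalizer (V : Set G)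
  hKV : ∀ v ∈ V, Commute v b → v = 1
  hCz : ∀ x ∈ centralizer (V : Set G), a * b * (a * b) * x * (a * b * (a * b)) * x⁻¹ ∈ V →
    x * (f * g * (f * g)) * x⁻¹ * (f * g * (f * g)) ∈ V → ∃ h ∈ closure ({f, g} : Set G), x * h⁻¹ ∈ V
  cC : c ∈ centralizer (V : Set G)
  hc2 : c * c = 1
  hcV : c ∉ V
  hceV : c * (f * g * (f * g)) ∉ V
  hcf : Commute c f
  hcg : Commute c g

section Dihedral

/-- The parameter map of the dihedral group of order eight. -/
def d8 (σ f : G) : DihedralGroup 4 → G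
  | .r i => σ ^ i.val
  | .sr i => f * σ ^ i.val

theorem d8_mul {σ f : G} (hσ : σ ^ 4 = 1) (hf : f * f = 1) (hflip : f * σ = σ ^ 3 * f) (x y : DihedralGroup 4) :
    d8 σ f (x * y) = d8 σ f x * d8 σ f y := by
  have hadd : ∀ i j : ZMod 4, σ ^ (i + j).val = σ ^ i.val * σ ^ j.val := fun i j => by
    rw [← pow_add, ZMod.val_add]
    conv_rhs => rw [← Nat.mod_add_div (i.val + j.val) 4, pow_add, pow_mul, hσ, one_pow, mul_one]
  have hs : SemiconjBy f σ (σ ^ 3) := hflip
  have hσf : ∀ n : ℕ, σ ^ n * f = f * σ ^ (3 * n) := fun n => by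
    have h1 := (hs.pow_right (3 * n)).eq
    rw [h1, ← pow_mul, show 3 * (3 * n) = n + 4 * (2 * n) by ring, pow_add, pow_mul σ 4, hσ, one_pow, mul_one]
  have hneg : ∀ i j : ZMod 4, σ ^ (j - i).val = σ ^ (3 * i.val) * σ ^ j.val := fun i j => by
    have : (j - i).val = (3 * i.val + j.val) % 4 := by revert i j; decide
    rw [← pow_add, this]
    conv_rhs => rw [← Nat.mod_add_div (3 * i.val + j.val) 4, pow_add, pow_mul, hσ, one_pow, mul_one]
  rcases x with i | i <;> rcases y with j | j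
  · rw [DihedralGroup.r_mul_r]; exact hadd i j
  · rw [DihedralGroup.r_mul_sr]
    show f * σ ^ (j - i).val = σ ^ i.val * (f * σ ^ j.val)
    rw [hneg, ← mul_assoc, ← mul_assoc, hσf]
  · rw [DihedralGroup.sr_mul_r]
    show f * σ ^ (i + j).val = f * σ ^ i.val * σ ^ j.val
    rw [hadd, ← mul_assoc]
  · rw [DihedralGroup.sr_mul_sr]
    show σ ^ (j - i).val = f * σ ^ i.val * (f * σ ^ j.val)
    rw [hneg, mul_assoc f, ← mul_assoc (σ ^ i.val) f, hσf, ← mul_assoc, ← mul_assoc, hf, one_mul]

end Dihedral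

theorem alt_six_not_solvable : ¬ Group.IsSolvable (alternatingGroup (Fin 6)) := by
  haveI := alternatingGroup.isSimpleGroup (α := Fin 6) (by simp)
  intro h
  obtain ⟨a, b, k, -, -, -, ha1, -, hba, -, -, hfa, -⟩ := CfsgLib.CIT.nineData_alt_six
  have h1 := IsSimpleGroup.comm_iff_isSolvable.2 h k a
  rw [mul_inv_eq_iff_eq_mul, h1] at hfa
  exact hba (mul_right_cancel hfa).symm

theorem perm_sign_of_four : (∀ x : Equiv.Perm (Fin 4), x * x * (x * x) = 1 → x * x ≠ 1 → Equiv.Perm.sign x = -1) ∧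
    (∀ x : Equiv.Perm (Fin 5), x * x * (x * x) = 1 → x * x ≠ 1 → Equiv.Perm.sign x = -1) := by
  constructor <;> decide +kernel

variable {P : G → Prop} {V : Subgroup G} {a b c f g : G}

namespace FourData

variable (h : FourData P V a b c f g)
include h

theorem ha2 : a * a = 1 := h.hV a h.ha

theorem fa : Commute f a := (mem_centralizer_iff.1 h.fC a h.ha).symm

theorem ga : Commute g a := (mem_centralizer_iff.1 h.gC a h.ha).symm

theorem za : Commute (a * b * (a * b)) a := by
  have h1 : a * (a * b * (a * b)) = (a * b * (a * b))⁻¹ * a := by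
    rw [_root_.mul_inv_rev, _root_.mul_inv_rev, inv_of h.ha2, inv_of h.hb2]
    simp only [mul_assoc, ← mul_assoc a a, h.ha2, one_mul, mul_one]
  rw [inv_eq_of_mul_eq_one_right h.hab] at h1
  exact h1.symm

theorem zb : Commute (a * b * (a * b)) b := by
  have h1 : b * (a * b * (a * b)) = (a * b * (a * b))⁻¹ * b := by
    rw [_root_.mul_inv_rev, _root_.mul_inv_rev, inv_of h.ha2, inv_of h.hb2]
    simp only [mul_assoc]
  rw [inv_eq_of_mul_eq_one_right h.hab] at h1
  exact h1.symm

theorem zf : Commute (a * b * (a * b)) f :=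
  ((h.fa.mul_right h.fb).mul_right (h.fa.mul_right h.fb)).symm

theorem zg : Commute (a * b * (a * b)) g :=
  ((h.ga.mul_right h.gb).mul_right (h.ga.mul_right h.gb)).symm

theorem ze : Commute (a * b * (a * b)) (f * g * (f * g)) :=
  (h.zf.mul_right h.zg).mul_right (h.zf.mul_right h.zg)

theorem sigma_four : (f * g) ^ 4 = 1 := by
  rw [show 4 = 2 + 2 from rfl, pow_add, pow_two]; exact h.hee

theorem flip : f * (f * g) = (f * g) ^ 3 * f := by
  have hinv : (f * g) ^ 3 = (f * g)⁻¹ := (inv_eq_of_mul_eq_one_right (by rw [← pow_succ', h.sigma_four])).symm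
  rw [hinv, _root_.mul_inv_rev, inv_of h.hf, inv_of h.hg, ← mul_assoc, h.hf, one_mul, mul_assoc, h.hf, mul_one]

theorem e_ne_one : f * g * (f * g) ≠ 1 := fun h1 => h.heV (h1 ▸ one_mem V)

theorem cef : f * g * (f * g) * f = f * (f * g * (f * g)) := by
  have h1 := h.flip
  calc f * g * (f * g) * f = (f * g) * (f * g) * f := rfl
    _ = f * (f * g) ^ 6 := by
      have hs : SemiconjBy f (f * g) ((f * g) ^ 3) := h.flip
      rw [(hs.pow_right 6).eq, ← pow_mul, show 3 * 6 = 2 + 4 * 4 by norm_num, pow_add, pow_mul _ 4 4, h.sigma_four,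
        one_pow, mul_one, pow_two]
    _ = f * (f * g * (f * g)) := by rw [show 6 = 2 + 4 by norm_num, pow_add, h.sigma_four, mul_one, pow_two]

/-- The elements of `⟨f, g⟩`. -/
def hom : DihedralGroup 4 →* G :=
  MonoidHom.mk' (d8 (f * g) f) (d8_mul h.sigma_four h.hf h.flip)

theorem mem_list {x : G} (hx : x ∈ closure ({f, g} : Set G)) : x ∈ h.hom.range := by
  refine (closure_le _).2 ?_ hx
  rintro y (rfl | rfl)
  · exact ⟨.sr 0, by show y * (y * g) ^ (0 : ZMod 4).val = y; simp⟩
  · refine ⟨.sr 1, ?_⟩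
    show f * (f * y) ^ (1 : ZMod 4).val = y
    rw [show (1 : ZMod 4).val = 1 from rfl, pow_one, ← mul_assoc, h.hf, one_mul]

theorem hom_mem_closure (x : DihedralGroup 4) : h.hom x ∈ closure ({f, g} : Set G) := by
  have hf : f ∈ closure ({f, g} : Set G) := subset_closure (by simp)
  have hg : g ∈ closure ({f, g} : Set G) := subset_closure (by simp)
  rcases x with i | i
  · exact pow_mem (mul_mem hf hg) _
  · exact mul_mem hf (pow_mem (mul_mem hf hg) _)

theorem hom_injective : Function.Injective h.hom := by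
  have hodd : ∀ i : ZMod 4, i ≠ 0 → (f * g) ^ i.val = 1 → False := by
    intro i hi h1
    have h2 : (f * g) ^ (2 * i.val) = 1 := by rw [mul_comm, pow_mul, h1, one_pow]
    have hv : ∀ i : ZMod 4, i ≠ 0 → 2 * i.val % 4 = 2 ∨ i.val = 2 := by decide
    rcases hv i hi with e | e
    · rw [← Nat.mod_add_div (2 * i.val) 4, e, pow_add, pow_mul, h.sigma_four, one_pow, mul_one, pow_two] at h2
      exact h.e_ne_one h2
    · rw [e, pow_two] at h1
      exact h.e_ne_one h1
  rw [injective_iff_map_eq_one]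
  intro x hx
  rcases x with i | i
  · by_contra hne
    exact hodd i (fun h0 => hne (by rw [h0]; rfl)) hx
  · exfalso
    have h1 : f * (f * g) ^ i.val = 1 := hx
    have hcomm : Commute f (f * g) := by
      obtain ⟨σ, hσ⟩ : ∃ σ, σ = f * g := ⟨_, rfl⟩
      rw [← hσ] at h1 ⊢
      rw [eq_inv_of_mul_eq_one_left h1]
      exact ((Commute.refl σ).pow_left _).inv_left
    have h2 := h.flip
    rw [hcomm.eq] at h2
    have h3 := mul_right_cancel h2
    apply h.e_ne_one
    have h4 : f * g * 1 = f * g * (f * g * (f * g)) := by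
      rw [mul_one]
      conv_lhs => rw [h3, pow_succ', pow_two]
    exact (mul_left_cancel h4).symm

theorem closure_le_K {x : G} (hx : x ∈ closure ({f, g} : Set G)) :
    x ∈ centralizer (V : Set G) ∧ Commute x a ∧ Commute x b := by
  have hle : closure ({f, g} : Set G) ≤
      centralizer (V : Set G) ⊓ (centralizer ({a} : Set G) ⊓ centralizer ({b} : Set G)) := by
    rw [closure_le]
    rintro y (rfl | rfl)
    exacts [mem_inf.2 ⟨h.fC, mem_inf.2 ⟨mem_centralizer_singleton_iff.2 h.fa.eq,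
        mem_centralizer_singleton_iff.2 h.fb.eq⟩⟩,
      mem_inf.2 ⟨h.gC, mem_inf.2 ⟨mem_centralizer_singleton_iff.2 h.ga.eq,
        mem_centralizer_singleton_iff.2 h.gb.eq⟩⟩]
  obtain ⟨h1, h2⟩ := mem_inf.1 (hle hx)
  obtain ⟨h2, h3⟩ := mem_inf.1 h2
  exact ⟨h1, mem_centralizer_singleton_iff.1 h2, mem_centralizer_singleton_iff.1 h3⟩

omit h in
theorem conj_mem_centralizer {k x : G} (hk : k ∈ normalizer (V : Set G)) (hx : x ∈ centralizer (V : Set G)) :
    k * x * k⁻¹ ∈ centralizer (V : Set G) := by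
  rw [mem_centralizer_iff] at hx ⊢
  intro v hv
  have h1 := hx _ ((mem_normalizer_iff''.1 hk v).1 hv)
  calc v * (k * x * k⁻¹) = k * ((k⁻¹ * v * k) * x) * k⁻¹ := by group
    _ = k * x * k⁻¹ * v := by rw [h1]; group

theorem swap_e : g * f * (g * f) = f * g * (f * g) := by
  rw [← inv_of h.hee]
  simp only [_root_.mul_inv_rev, inv_of h.hf, inv_of h.hg]

/-- The data with `f` and `g` exchanged. -/
theorem swap : FourData P V a b c g f where
  hP := h.hP
  hV := h.hV
  hV4 := h.hV4
  ha := h.ha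
  hb2 := h.hb2
  hab := h.hab
  hsq := h.hsq
  hcit := h.hcit
  fC := h.gC
  gC := h.fC
  fb := h.gb
  gb := h.fb
  hf := h.hg
  hg := h.hf
  hee := by rw [h.swap_e]; exact h.hee
  heV := by rw [h.swap_e]; exact h.heV
  hea := by rw [h.swap_e]; exact h.hea
  hKe := by rw [h.swap_e, Set.pair_comm]; exact h.hKe
  hfus := by rw [h.swap_e]; exact h.hfus'
  hfus' := by rw [h.swap_e]; exact h.hfus
  hNg := h.hNf
  hNf := h.hNg
  hzC := h.hzC
  hzN := h.hzN
  hKV := h.hKV
  hCz := by rw [h.swap_e, Set.pair_comm]; exact h.hCz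
  cC := h.cC
  hc2 := h.hc2
  hcV := h.hcV
  hceV := by rw [h.swap_e]; exact h.hceV
  hcf := h.hcg
  hcg := h.hcf

/-- An element of `K₁` of order three inducing `e → f → ef`. -/
theorem exists_three : ∃ r : G, r ∈ centralizer (V : Set G) ∧ Commute r a ∧ Commute r b ∧
    r * (f * g * (f * g)) * r⁻¹ = f ∧ r * f * r⁻¹ = f * g * (f * g) * f ∧ r ^ 3 = 1 := by
  obtain ⟨e, he⟩ : ∃ e, e = f * g * (f * g) := ⟨_, rfl⟩
  obtain ⟨z, hz⟩ : ∃ z, z = a * b * (a * b) := ⟨_, rfl⟩
  have zz : z * z = 1 := hz ▸ h.hab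
  have cef : e * f = f * e := he ▸ h.cef
  have hee : e * e = 1 := he ▸ h.hee
  obtain ⟨k, ka, kb, hk⟩ := h.hfus
  rw [← he] at hk
  obtain ⟨e', he'⟩ : ∃ e', e' = k⁻¹ * e * k := ⟨_, rfl⟩
  have eA : Commute e a := he ▸ ((h.fa.mul_left h.ga).mul_left (h.fa.mul_left h.ga))
  have eB : Commute e b := he ▸ ((h.fb.mul_left h.gb).mul_left (h.fb.mul_left h.gb))
  have ca : Commute e' a := he' ▸ (ka.inv_left.mul_left eA).mul_left ka
  have cb : Commute e' b := he' ▸ (kb.inv_left.mul_left eB).mul_left kb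
  have ce : Commute e' e := by
    show e' * e = e * e'
    have h1 : e * (k * e * k⁻¹) = (k * e * k⁻¹) * e := by rw [hk]; exact cef
    calc e' * e = k⁻¹ * (e * (k * e * k⁻¹)) * k := by rw [he']; group
      _ = k⁻¹ * ((k * e * k⁻¹) * e) * k := by rw [h1]
      _ = e * e' := by rw [he']; group
  obtain ⟨w, hw, hw'⟩ := h.hKe e' ca cb (he ▸ ce)
  rw [← hz] at hw'
  obtain ⟨s, rfl⟩ := h.mem_list hw
  have hzw : Commute z (h.hom s) := by
    obtain ⟨-, h1, h2⟩ := h.closure_le_K hw
    rw [hz]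
    exact ((h1.mul_right h2).mul_right (h1.mul_right h2)).symm
  -- `σ = fg` moves `e'` to `e e'`
  have hσ : (f * g) * e' * (f * g)⁻¹ = e * e' := by
    have hzσ : Commute z (f * g) := hz ▸ h.zf.mul_right h.zg
    have hbase : (f * g) * h.hom s * (f * g)⁻¹ = e * h.hom s := by
      have hs2 : h.hom s * h.hom s = 1 := by
        have he'2 : e' * e' = 1 := by
          rw [he']
          calc k⁻¹ * e * k * (k⁻¹ * e * k) = k⁻¹ * (e * e) * k := by group
            _ = 1 := by rw [hee]; group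
        rcases hw' with e1 | e1 <;> rw [e1] at he'2
        · exact he'2
        · calc h.hom s * h.hom s = (z * z) * (h.hom s * h.hom s) := by rw [zz, one_mul]
            _ = z * h.hom s * (z * h.hom s) := by
              rw [← pow_two (z * h.hom s), hzw.mul_pow, pow_two, pow_two]
            _ = 1 := he'2
      have hs : s ≠ 1 ∧ s ≠ DihedralGroup.r 2 := by
        have hr2 : h.hom (DihedralGroup.r 2) = e := by
          show (f * g) ^ (2 : ZMod 4).val = e
          rw [show (2 : ZMod 4).val = 2 from rfl, pow_two, he]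
        have hke : k * e' * k⁻¹ = e := by rw [he']; group
        constructor <;> intro hs <;> rw [hs] at hw'
        · rw [map_one, mul_one] at hw'
          rcases hw' with e1 | e1 <;> rw [e1] at hke
          · exact h.e_ne_one (he ▸ (by rw [← hke]; group))
          · have hkz : Commute k z := hz ▸ (ka.mul_right kb).mul_right (ka.mul_right kb)
            rw [hkz.eq, mul_inv_cancel_right] at hke
            exact h.hzC (hz ▸ hke ▸ he ▸ mul_mem (mul_mem h.fC h.gC) (mul_mem h.fC h.gC))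
        · rw [hr2] at hw'
          have hfe : e ≠ f := fun h1 => by
            apply h.e_ne_one
            rw [← he]
            have hgfg : g * f * g = f * e := by
              calc g * f * g = (f * f) * g * f * g := by rw [h.hf, one_mul]
                _ = f * e := by rw [he]; simp only [mul_assoc]
            rw [h1, h.hf] at hgfg
            have hf1 : f = 1 := by
              calc f = (g * g) * f * (g * g) := by rw [h.hg, one_mul, mul_one]
                _ = g * (g * f * g) * g := by simp only [mul_assoc]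
                _ = 1 := by rw [hgfg, mul_one, h.hg]
            rw [h1, hf1]
          rcases hw' with e1 | e1 <;> rw [e1] at hke
          · exact hfe (hke.symm.trans hk)
          · have hkz : Commute k z := hz ▸ (ka.mul_right kb).mul_right (ka.mul_right kb)
            rw [← mul_assoc k, hkz.eq, mul_assoc z, mul_assoc z, hk] at hke
            exact h.hzC (hz ▸ (by
              rw [show z = e * f by rw [← hke, mul_assoc, h.hf, mul_one], he]
              exact mul_mem (mul_mem (mul_mem h.fC h.gC) (mul_mem h.fC h.gC)) h.fC))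
      have key : ∀ s : DihedralGroup 4, s * s = 1 → s ≠ 1 → s ≠ DihedralGroup.r 2 →
          DihedralGroup.r 1 * s * (DihedralGroup.r 1)⁻¹ = DihedralGroup.r 2 * s := by decide
      have h1 := congrArg h.hom (key s (h.hom_injective (by rw [map_mul, hs2, map_one])) hs.1 hs.2)
      rw [map_mul, map_mul, map_mul, map_inv] at h1
      have hr1 : h.hom (DihedralGroup.r 1) = f * g := pow_one _
      have hr2 : h.hom (DihedralGroup.r 2) = e := by
        show (f * g) ^ (2 : ZMod 4).val = e
        rw [show (2 : ZMod 4).val = 2 from rfl, pow_two, he]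
      rwa [hr1, hr2] at h1
    rcases hw' with e1 | e1 <;> rw [e1]
    · exact hbase
    · rw [← mul_assoc, ← hzσ.eq, mul_assoc z, mul_assoc z, hbase, ← mul_assoc, ← mul_assoc,
        show z * e = e * z by rw [hz, he]; exact h.ze.eq]
  obtain ⟨u, hu⟩ : ∃ u, u = k * (f * g) * k⁻¹ := ⟨_, rfl⟩
  have sA : Commute (f * g) a := h.fa.mul_left h.ga
  have sB : Commute (f * g) b := h.fb.mul_left h.gb
  have uA : Commute u a := hu ▸ (ka.mul_left sA).mul_left ka.inv_left
  have uB : Commute u b := hu ▸ (kb.mul_left sB).mul_left kb.inv_left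
  have ue : u * e * u⁻¹ = f * e := by
    calc u * e * u⁻¹ = k * ((f * g) * e' * (f * g)⁻¹) * k⁻¹ := by rw [hu, he']; group
      _ = (k * e * k⁻¹) * (k * e' * k⁻¹) := by rw [hσ]; group
      _ = f * e := by rw [hk, he']; group
  have uf : Commute u f := by
    show u * f = f * u
    rw [← hk, hu, he]; group
  have uN := h.hNf u uA uB uf
  -- `r₀ = g u`
  obtain ⟨r₀, hr₀⟩ : ∃ r, r = g * u := ⟨_, rfl⟩
  have gfg : g * f * g⁻¹ = f * e := by
    calc g * f * g⁻¹ = (f * f) * g * f * g := by rw [h.hf, one_mul, inv_of h.hg]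
      _ = f * e := by rw [he]; simp only [mul_assoc]
  have geg : g * e * g⁻¹ = e := by
    have hs : SemiconjBy g (f * g) (f * g)⁻¹ := by
      show g * (f * g) = (f * g)⁻¹ * g
      rw [_root_.mul_inv_rev, inv_of h.hf, inv_of h.hg, mul_assoc g f]
    have h2 := (hs.pow_right 2).eq
    rw [inv_pow, pow_two, ← he, inv_of hee] at h2
    rw [h2, mul_inv_cancel_right]
  have rA : Commute r₀ a := hr₀ ▸ h.ga.mul_left uA
  have rB : Commute r₀ b := hr₀ ▸ h.gb.mul_left uB
  have re : r₀ * e * r₀⁻¹ = f := by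
    calc r₀ * e * r₀⁻¹ = g * (u * e * u⁻¹) * g⁻¹ := by rw [hr₀]; group
      _ = (g * f * g⁻¹) * (g * e * g⁻¹) := by rw [ue]; group
      _ = f := by rw [gfg, geg, mul_assoc, hee, mul_one]
  have rf : r₀ * f * r₀⁻¹ = e * f := by
    calc r₀ * f * r₀⁻¹ = g * (u * f * u⁻¹) * g⁻¹ := by rw [hr₀]; group
      _ = e * f := by rw [uf.eq, mul_inv_cancel_right, gfg, cef]
  have rN : r₀ ∈ normalizer (V : Set G) :=
    hr₀ ▸ mul_mem (centralizer_le_normalizer (V : Set G) h.gC) uN
  -- into the centraliser of `V`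
  obtain ⟨r₁, rC, rA1, rB1, re1, rf1⟩ : ∃ r, r ∈ centralizer (V : Set G) ∧ Commute r a ∧ Commute r b ∧
      r * e * r⁻¹ = f ∧ r * f * r⁻¹ = e * f := by
    obtain ⟨v, hv⟩ := h.hV4
    have hmove : ∀ x : G, Commute x a → x ∈ normalizer (V : Set G) → x ∉ centralizer (V : Set G) →
        v ∈ V ∧ x * v * x⁻¹ = v * a := by
      intro x xa xN xC
      have hfix : x * a * x⁻¹ = a := by rw [xa.eq, mul_inv_cancel_right]
      have hvV : v ∈ V := by
        by_contra hv'
        refine xC (mem_centralizer_iff.2 fun y hy => ?_)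
        rcases hv y hy with e1 | e1 | e1 | e1
        · rw [e1, one_mul, mul_one]
        · rw [e1]; exact xa.eq.symm
        · exact absurd (e1 ▸ hy) hv'
        · exact absurd (by simpa [e1, mul_assoc, h.ha2] using mul_mem hy h.ha) hv'
      refine ⟨hvV, ?_⟩
      have hx1 : x * v * x⁻¹ ∈ V := (mem_normalizer_iff.1 xN v).1 hvV
      have hcom : ∀ y : G, x * y * x⁻¹ = y → Commute x y := fun y hy => mul_inv_eq_iff_eq_mul.1 hy
      have hall : Commute x v → False := fun hxv => xC (mem_centralizer_iff.2 fun y hy => by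
        rcases hv y hy with e1 | e1 | e1 | e1 <;> rw [e1]
        · rw [one_mul, mul_one]
        · exact xa.eq.symm
        · exact hxv.eq.symm
        · exact (hxv.mul_right xa).eq.symm)
      rcases hv _ hx1 with e1 | e1 | e1 | e1
      · exact absurd ((conj_eq_one_iff.1 e1) ▸ Commute.one_right x) hall
      · have : v = a := by
          calc v = x⁻¹ * (x * v * x⁻¹) * x := by group
            _ = a := by rw [e1, mul_assoc, ← xa.eq, inv_mul_cancel_left]
        exact absurd (this ▸ xa) hall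
      · exact absurd (hcom v e1) hall
      · exact e1
    by_cases hC : r₀ ∈ centralizer (V : Set G)
    · exact ⟨r₀, hC, rA, rB, re, rf⟩
    · refine ⟨r₀ * z, ?_, rA.mul_left (hz ▸ h.za), rB.mul_left (hz ▸ h.zb), ?_, ?_⟩
      · obtain ⟨hvV, h1⟩ := hmove r₀ rA rN hC
        obtain ⟨-, h2⟩ := hmove z (hz ▸ h.za) (hz ▸ h.hzN) (hz ▸ h.hzC)
        have za : Commute z a := hz ▸ h.za
        have hfixv : r₀ * z * v * (r₀ * z)⁻¹ = v := by
          calc r₀ * z * v * (r₀ * z)⁻¹ = r₀ * (z * v * z⁻¹) * r₀⁻¹ := by group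
            _ = (r₀ * v * r₀⁻¹) * (r₀ * a * r₀⁻¹) := by rw [h2]; group
            _ = v := by rw [h1, rA.eq, mul_inv_cancel_right, mul_assoc, h.ha2, mul_one]
        have cv : Commute (r₀ * z) v := mul_inv_eq_iff_eq_mul.1 hfixv
        have ca' : Commute (r₀ * z) a := rA.mul_left za
        refine mem_centralizer_iff.2 fun y hy => ?_
        rcases hv y hy with e1 | e1 | e1 | e1 <;> rw [e1]
        · rw [one_mul, mul_one]
        · exact ca'.eq.symm
        · exact cv.eq.symm
        · exact (cv.mul_right ca').eq.symm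
      · rw [show r₀ * z * e * (r₀ * z)⁻¹ = r₀ * (z * e * z⁻¹) * r₀⁻¹ by group,
          show z * e * z⁻¹ = e by rw [hz, he, h.ze.eq, mul_inv_cancel_right], re]
      · rw [show r₀ * z * f * (r₀ * z)⁻¹ = r₀ * (z * f * z⁻¹) * r₀⁻¹ by group,
          show z * f * z⁻¹ = f by rw [hz, h.zf.eq, mul_inv_cancel_right], rf]
  -- the element of order three
  have ref : r₁ * (e * f) * r₁⁻¹ = e := by
    calc r₁ * (e * f) * r₁⁻¹ = (r₁ * e * r₁⁻¹) * (r₁ * f * r₁⁻¹) := by group
      _ = e := by rw [re1, rf1, cef, ← mul_assoc, h.hf, one_mul]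
  have c3 : Commute (r₁ ^ 3) e := by
    refine mul_inv_eq_iff_eq_mul.1 ?_
    calc r₁ ^ 3 * e * (r₁ ^ 3)⁻¹ = r₁ * (r₁ * (r₁ * e * r₁⁻¹) * r₁⁻¹) * r₁⁻¹ := by rw [pow_succ, pow_two]; group
      _ = e := by rw [re1, rf1, ref]
  have c3f : Commute (r₁ ^ 3) f := by
    refine mul_inv_eq_iff_eq_mul.1 ?_
    calc r₁ ^ 3 * f * (r₁ ^ 3)⁻¹ = r₁ * (r₁ * (r₁ * f * r₁⁻¹) * r₁⁻¹) * r₁⁻¹ := by rw [pow_succ, pow_two]; group
      _ = f := by rw [rf1, ref, re1]
  have h4 : (r₁ ^ 3) ^ 4 = 1 := by
    obtain ⟨y, hy, hy'⟩ := h.hKe (r₁ ^ 3) (rA1.pow_left 3) (rB1.pow_left 3) (he ▸ c3)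
    rcases hy' with e1 | e1
    · obtain ⟨s, rfl⟩ := h.mem_list hy
      have h8 : ∀ s : DihedralGroup 4, s ^ 4 = 1 := by decide
      rw [e1, ← map_pow, h8, map_one]
    · exfalso
      refine h.hzC ?_
      rw [show a * b * (a * b) = r₁ ^ 3 * y⁻¹ by rw [e1, mul_inv_cancel_right]]
      exact mul_mem (pow_mem rC 3) (inv_mem (h.closure_le_K hy).1)
  have act : ∀ x : G, Commute (r₁ ^ 3) x → ∀ y, r₁ * x * r₁⁻¹ = y → r₁ ^ 4 * x * (r₁ ^ 4)⁻¹ = y := by
    intro x hx y hy
    calc r₁ ^ 4 * x * (r₁ ^ 4)⁻¹ = r₁ * (r₁ ^ 3 * x * (r₁ ^ 3)⁻¹) * r₁⁻¹ := by rw [pow_succ' r₁ 3]; group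
      _ = y := by rw [hx.eq, mul_inv_cancel_right, hy]
  refine ⟨r₁ ^ 4, pow_mem rC 4, rA1.pow_left 4, rB1.pow_left 4, ?_, ?_, ?_⟩
  · rw [← he]; exact act e c3 f re1
  · rw [← he]; exact act f c3f _ rf1
  · rw [← pow_mul, mul_comm, pow_mul, h4]

/-- The centraliser of `V` in `C(⟨a, b⟩)`. -/
theorem alt_six_false [Finite G] (ψ : alternatingGroup (Fin 6) →* G) (hψ : Function.Injective ψ)
    (hψC : ∀ x, ψ x ∈ centralizer (V : Set G) ∧ Commute (ψ x) a ∧ Commute (ψ x) b)
    (hψK : ∀ x : G, x ∈ centralizer (V : Set G) → Commute x a → Commute x b → x ∈ ψ.range) : False := by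
  classical
  haveI : Fact (Nat.Prime 2) := ⟨Nat.prime_two⟩
  haveI hA6 := alternatingGroup.isSimpleGroup (α := Fin 6) (by simp)
  have hC := cit_quotient h.hV h.hcit
  obtain ⟨r, rC, ra, rb, hre, hrf, hr3⟩ := h.exists_three
  let π := QuotientGroup.mk' (inner V)
  have mem1 : ∀ {x : centralizer (V : Set G)}, π x = 1 ↔ (x : G) ∈ V := fun {x} =>
    (QuotientGroup.eq_one_iff x).trans mem_subgroupOf
  let ψ' : alternatingGroup (Fin 6) →* centralizer (V : Set G) := ψ.codRestrict _ fun x => (hψC x).1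
  let χ := π.comp ψ'
  have hχ : Function.Injective χ := by
    rw [injective_iff_map_eq_one]
    intro x hx
    refine hψ ((h.hKV _ (mem1.1 hx) (hψC x).2.2).trans (map_one ψ).symm)
  have hns : ¬ Group.IsSolvable (centralizer (V : Set G) ⧸ inner V) := fun hs =>
    alt_six_not_solvable (haveI := hs; Group.isSolvable_of_isSolvable_injective hχ)
  obtain ⟨a₁, b₁, -, ha1, hb1, hab, ha0, hb0, hba, hba2, -, -, -⟩ := CfsgLib.CIT.nineData_alt_six
  -- images
  obtain ⟨e, he⟩ : ∃ e, e = f * g * (f * g) := ⟨_, rfl⟩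
  have eC : e ∈ centralizer (V : Set G) := he ▸ mul_mem (mul_mem h.fC h.gC) (mul_mem h.fC h.gC)
  let E : centralizer (V : Set G) := ⟨e, eC⟩
  let F : centralizer (V : Set G) := ⟨f, h.fC⟩
  let H : centralizer (V : Set G) := ⟨g, h.gC⟩
  let R : centralizer (V : Set G) := ⟨r, rC⟩
  let C : centralizer (V : Set G) := ⟨c, h.cC⟩
  have inRange : ∀ x : centralizer (V : Set G), Commute (x : G) a → Commute (x : G) b → π x ∈ χ.range := by
    intro x hxa hxb
    obtain ⟨y, hy⟩ := hψK x x.2 hxa hxb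
    exact ⟨y, congrArg π (Subtype.ext hy : ψ' y = x)⟩
  have he1 : π E ≠ 1 := fun h1 => h.heV (he ▸ mem1.1 h1)
  have he2 : orderOf (π E) = 2 := orderOf_eq_prime (by
    rw [pow_two, ← map_mul, show E * E = 1 from Subtype.ext (show e * e = 1 from he ▸ h.hee), map_one]) he1
  have hcore : Cfsg.pCore 2 (centralizer (V : Set G) ⧸ inner V) = ⊥ := by
    refine pCore_eq_bot_of hC (he2 ▸ orderOf_dvd_natCard _) hns fun S _ h2 ρ hρ => ?_
    obtain ⟨A, hA⟩ : ∃ A, A = ρ (χ a₁) := ⟨_, rfl⟩
    obtain ⟨B, hB⟩ : ∃ B, B = ρ (χ b₁) := ⟨_, rfl⟩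
    have ne : ∀ {y : alternatingGroup (Fin 6)}, y ≠ 1 → χ y ≠ 1 := fun hy h1 => hy (hχ (h1.trans (map_one χ).symm))
    have cube : ∀ {y : alternatingGroup (Fin 6)}, y ^ 3 = 1 → y ≠ 1 → 1 + ρ (χ y) + ρ (χ y) * ρ (χ y) = 0 :=
      fun hy hy1 => hρ _ (by rw [← map_pow, hy, map_one]) (ne hy1)
    have cab : Commute a₁ b₁ := hab
    have hA1 := cube ha1 ha0
    have hB1 := cube hb1 hb0
    have h1 := cube (y := a₁ * b₁) (by rw [cab.mul_pow, ha1, hb1, one_mul]) fun h1 => hba2 (by
      rw [eq_inv_of_mul_eq_one_right h1]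
      exact inv_eq_of_mul_eq_one_right (by rw [← mul_assoc, ← ha1, pow_succ, pow_two]))
    have h3 := cube (y := a₁ * (b₁ * b₁)) (by
      rw [(cab.mul_right cab).mul_pow, ha1, one_mul, ← pow_two, ← pow_mul, mul_comm, pow_mul,
        hb1, one_pow]) fun h3 => hba (by
      have hb' : b₁ * b₁ * b₁ = 1 := by rw [← hb1, pow_succ, pow_two]
      calc b₁ = a₁ * (b₁ * b₁) * b₁ := by rw [h3, one_mul]
        _ = a₁ := by rw [mul_assoc, hb', mul_one])
    rw [map_mul, map_mul, ← hA, ← hB] at h1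
    rw [map_mul, map_mul, map_mul, map_mul, ← hA, ← hB] at h3
    rw [← hA] at hA1
    rw [← hB] at hB1
    have hAB : A * B = B * A := by rw [hA, hB, ← map_mul, ← map_mul, ← map_mul, ← map_mul, hab]
    have hdbl : ∀ x : S, x + x = 0 := fun x => by rw [← two_mul, h2, zero_mul]
    have hAA : A * A = 1 + A := by
      have := eq_neg_of_add_eq_zero_right hA1
      rw [this]
      exact neg_eq_of_add_eq_zero_left (hdbl _)
    have hBB : B * B = 1 + B := by
      have := eq_neg_of_add_eq_zero_right hB1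
      rw [this]
      exact neg_eq_of_add_eq_zero_left (hdbl _)
    -- the two products give `1 + A + B = 0` and then `1 = 0`
    have e1 : A * B * (A * B) = (1 + A) * (1 + B) := by
      rw [mul_assoc A, ← mul_assoc B, ← hAB, mul_assoc A B, hBB, ← mul_assoc, hAA]
    have s1 : A + B = 0 := by
      rw [e1] at h1
      calc A + B = (1 + A * B + (1 + A) * (1 + B)) + -((1 + 1) + (A * B + A * B)) := by
            simp only [add_mul, mul_add, one_mul, mul_one]; abel
        _ = 0 := by rw [h1, hdbl, hdbl]; simp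
    have hAeq : A = B := by
      calc A = A + (B + B) := by rw [hdbl, add_zero]
        _ = (A + B) + B := by rw [add_assoc]
        _ = B := by rw [s1, zero_add]
    rw [hAeq, ← mul_assoc, hBB, add_mul, one_mul, hBB] at h3
    have hsum : B + (1 + B) = 1 := by rw [← add_assoc, add_comm B 1, add_assoc, hdbl, add_zero]
    rw [hsum, one_mul, one_add_one_eq_two, h2, zero_add] at h3
    exact h3
  have hmem : ∀ L : Subgroup (centralizer (V : Set G) ⧸ inner V), ∀ [L.Normal],
      Group.IsSolvable ((centralizer (V : Set G) ⧸ inner V) ⧸ L) → π E ∈ L ∧ π F ∈ L ∧ π H ∈ L ∧ π R ∈ L := by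
    intro L _ hs
    have hker : ((QuotientGroup.mk' L).comp χ).ker = ⊤ := by
      rcases (MonoidHom.normal_ker ((QuotientGroup.mk' L).comp χ)).eq_bot_or_eq_top with h1 | h1
      · exact absurd (haveI := hs; Group.isSolvable_of_isSolvable_injective ((MonoidHom.ker_eq_bot_iff _).1 h1))
          alt_six_not_solvable
      · exact h1
    have key : ∀ x : centralizer (V : Set G), Commute (x : G) a → Commute (x : G) b → π x ∈ L := by
      intro x hxa hxb
      obtain ⟨y, hy⟩ := inRange x hxa hxb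
      have hy' : ((QuotientGroup.mk' L).comp χ) y = 1 := by rw [← MonoidHom.mem_ker, hker]; exact mem_top y
      rw [← hy]
      exact (QuotientGroup.eq_one_iff _).1 hy'
    exact ⟨key E (show Commute e a from he ▸ (h.fa.mul_left h.ga).mul_left (h.fa.mul_left h.ga))
      (show Commute e b from he ▸ (h.fb.mul_left h.gb).mul_left (h.fb.mul_left h.gb)), key F h.fa h.fb, key H h.ga h.gb, key R ra rb⟩
  have hcE : π C ≠ π E := fun h1 => h.hceV (by
    have : π (C * E) = 1 := by
      rw [map_mul, h1, ← map_mul, show E * E = 1 from Subtype.ext (show e * e = 1 from he ▸ h.hee), map_one]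
    exact he ▸ mem1.1 this)
  obtain ⟨L, hLn, hLs, hL34, hLc, hsol, -⟩ := exists_psl hC hns hcore (c := π C) (e := π E) (f := π F) (g := π H)
    (r := π R) he2 (by rw [← map_mul, show F * F = 1 from Subtype.ext h.hf, map_one])
    (by rw [← map_mul, show H * H = 1 from Subtype.ext h.hg, map_one])
    (by rw [← map_mul, ← map_mul]; exact congrArg π (Subtype.ext he))
    (by rw [← map_mul, ← map_mul]; exact congrArg π (Subtype.ext (show e * f = f * e from he ▸ h.cef)))
    (by rw [← map_pow, show R ^ 3 = 1 from Subtype.ext hr3, map_one])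
    (by rw [← map_inv, ← map_mul, ← map_mul]; exact congrArg π (Subtype.ext (show r * e * r⁻¹ = f from he ▸ hre)))
    (by
      rw [← map_inv, ← map_mul, ← map_mul, ← map_mul]
      exact congrArg π (Subtype.ext (show r * f * r⁻¹ = e * f from he ▸ hrf)))
    hmem
    (orderOf_eq_prime (by rw [pow_two, ← map_mul, show C * C = 1 from Subtype.ext h.hc2, map_one])
      fun h1 => h.hcV (mem1.1 h1))
    ((show Commute C F from Subtype.ext h.hcf.eq).map π) ((show Commute C H from Subtype.ext h.hcg.eq).map π) hcE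
  -- conjugation by `z`
  obtain ⟨z, hz⟩ : ∃ z, z = a * b * (a * b) := ⟨_, rfl⟩
  have zz : z * z = 1 := hz ▸ h.hab
  have zN : z ∈ normalizer (V : Set G) := hz ▸ h.hzN
  let τ : centralizer (V : Set G) →* centralizer (V : Set G) :=
    { toFun := fun x => ⟨z * x * z⁻¹, conj_mem_centralizer zN x.2⟩
      map_one' := Subtype.ext (by simp)
      map_mul' := fun x y => Subtype.ext (by simp [mul_assoc]) }
  have hτV : inner V ≤ (inner V).comap τ := fun x hx => by
    rw [mem_comap, mem_subgroupOf]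
    exact (mem_normalizer_iff.1 zN _).1 (mem_subgroupOf.1 hx)
  let σ₀ : (centralizer (V : Set G) ⧸ inner V) →* (centralizer (V : Set G) ⧸ inner V) :=
    QuotientGroup.map _ _ τ hτV
  have hσσ : ∀ x, σ₀ (σ₀ x) = x := by
    intro x
    obtain ⟨x, rfl⟩ := QuotientGroup.mk_surjective x
    show ((τ (τ x) : centralizer (V : Set G)) : centralizer (V : Set G) ⧸ inner V) = _
    congr 1
    refine Subtype.ext ?_
    show z * (z * x * z⁻¹) * z⁻¹ = x
    rw [inv_of zz, ← mul_assoc, ← mul_assoc, zz, one_mul, mul_assoc, zz, mul_one]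
  have fixed : ∀ x : centralizer (V : Set G), Commute (x : G) a → Commute (x : G) b → σ₀ (π x) = π x := by
    intro x hxa hxb
    show ((τ x : centralizer (V : Set G)) : centralizer (V : Set G) ⧸ inner V) = _
    congr 1
    refine Subtype.ext ?_
    show z * x * z⁻¹ = x
    have hc : Commute z (x : G) := hz ▸ ((hxa.mul_right hxb).mul_right (hxa.mul_right hxb)).symm
    rw [hc.eq, mul_inv_cancel_right]
  have hσinj : Function.Injective σ₀ := fun x y hxy => by rw [← hσσ x, hxy, hσσ]
  have hσL : ∀ x ∈ L, σ₀ x ∈ L := by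
    have hn : (L.map σ₀).Normal := hLn.map σ₀ fun y => ⟨σ₀ y, hσσ y⟩
    haveI := hn
    rcases ((inferInstance : (L.map σ₀).Normal).subgroupOf L).eq_bot_or_eq_top with h1 | h1
    · exfalso
      have hle : L.map σ₀ ≤ centralizer (L : Set _) := fun y hy => mem_centralizer_iff.2 fun x hx => by
        have hk : y * x * y⁻¹ * x⁻¹ ∈ L.map σ₀ ⊓ L := by
          refine mem_inf.2 ⟨?_, mul_mem (hLn.conj_mem x hx y) (inv_mem hx)⟩
          rw [mul_assoc y, mul_assoc y]
          exact mul_mem hy (hn.conj_mem _ (inv_mem hy) x)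
        obtain ⟨hk1, hk2⟩ := mem_inf.1 hk
        have := (eq_bot_iff_forall _).1 h1 ⟨_, hk2⟩ (mem_subgroupOf.2 hk1)
        have h' : y * x * y⁻¹ * x⁻¹ = 1 := congrArg Subtype.val this
        exact (mul_inv_eq_iff_eq_mul.1 (mul_inv_eq_one.1 h')).symm
      rw [hLc, le_bot_iff, map_eq_bot_iff_of_injective L hσinj] at hle
      haveI := hLs
      obtain ⟨x, hx⟩ := exists_ne (1 : L)
      exact hx (Subtype.ext (mem_bot.1 (hle ▸ x.2)))
    · intro x hx
      have hle : L ≤ L.map σ₀ := subgroupOf_eq_top.1 h1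
      obtain ⟨y, hy, hyx⟩ := hle hx
      rw [← hyx, hσσ]
      exact hy
  let σ : MulAut L :=
    { toFun := fun x => ⟨σ₀ x.1, hσL x.1 x.2⟩
      invFun := fun x => ⟨σ₀ x.1, hσL x.1 x.2⟩
      left_inv := fun x => Subtype.ext (hσσ x.1)
      right_inv := fun x => Subtype.ext (hσσ x.1)
      map_mul' := fun x y => Subtype.ext (map_mul σ₀ x.1 y.1) }
  obtain ⟨hEL, hFL, hHL, -⟩ := hmem L hsol
  -- the dihedral group in `L`
  have hcl : ∀ s, h.hom s ∈ centralizer (V : Set G) := fun s => (h.closure_le_K (h.hom_mem_closure s)).1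
  let ψ₈ := π.comp (h.hom.codRestrict _ hcl)
  have h8L : ∀ s, ψ₈ s ∈ L := by
    intro s
    rcases s with i | i
    · show π ((h.hom.codRestrict _ hcl) (.r i)) ∈ L
      rw [show (h.hom.codRestrict _ hcl) (.r i) = (F * H) ^ i.val from Subtype.ext (by rfl), map_pow, map_mul]
      exact pow_mem (mul_mem hFL hHL) _
    · show π ((h.hom.codRestrict _ hcl) (.sr i)) ∈ L
      rw [show (h.hom.codRestrict _ hcl) (.sr i) = F * (F * H) ^ i.val from Subtype.ext (by rfl), map_mul,
        map_pow, map_mul]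
      exact mul_mem hFL (pow_mem (mul_mem hFL hHL) _)
  let ψL : DihedralGroup 4 →* L := ψ₈.codRestrict L h8L
  have hψL : Function.Injective ψL := by
    rw [injective_iff_map_eq_one]
    intro s hs
    have h1 : ψ₈ s = 1 := congrArg Subtype.val hs
    obtain ⟨-, -, sb⟩ := h.closure_le_K (h.hom_mem_closure s)
    exact h.hom_injective ((h.hKV _ (mem1.1 h1) sb).trans (map_one h.hom).symm)
  have hE : (⟨π E, hEL⟩ : L) = ψL (DihedralGroup.r 2) := by
    refine Subtype.ext (congrArg π (Subtype.ext ?_))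
    show e = (f * g) ^ (2 : ZMod 4).val
    rw [show (2 : ZMod 4).val = 2 from rfl, pow_two, he]
  have hS : ∀ x : L, (σ x = x ∧ Commute x ⟨π E, hEL⟩) ↔ x ∈ ψL.range := by
    intro x
    constructor
    · rintro ⟨h1, h2⟩
      obtain ⟨y, hy⟩ := QuotientGroup.mk_surjective (x : centralizer (V : Set G) ⧸ inner V)
      have h1' : σ₀ (π y) = π y := by
        have hy' : π y = x.1 := hy
        rw [hy']
        exact congrArg Subtype.val h1
      have k1 : a * b * (a * b) * y * (a * b * (a * b)) * (y : G)⁻¹ ∈ V := by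
        have : π (τ y * y⁻¹) = 1 := by rw [map_mul, map_inv, mul_inv_eq_one]; exact h1'
        have h3 := mem1.1 this
        change z * (y : G) * z⁻¹ * (y : G)⁻¹ ∈ V at h3
        rwa [inv_of zz, hz] at h3
      have k2 : (y : G) * (f * g * (f * g)) * (y : G)⁻¹ * (f * g * (f * g)) ∈ V := by
        have h2' : π y * π E = π E * π y := by
          show (y : centralizer (V : Set G) ⧸ inner V) * π E = π E * (y : centralizer (V : Set G) ⧸ inner V)
          rw [hy]
          exact congrArg Subtype.val h2.eq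
        have : π (y * E * y⁻¹ * E) = 1 := by
          rw [map_mul, map_mul, map_mul, map_inv, h2', mul_inv_cancel_right, ← map_mul,
            show E * E = 1 from Subtype.ext (show e * e = 1 from he ▸ h.hee), map_one]
        have h3 := mem1.1 this
        change (y : G) * e * (y : G)⁻¹ * e ∈ V at h3
        rwa [he] at h3
      obtain ⟨w, hw, hwV⟩ := h.hCz y y.2 k1 k2
      obtain ⟨s, rfl⟩ := h.mem_list hw
      refine ⟨s, Subtype.ext ?_⟩
      show π ((h.hom.codRestrict _ hcl) s) = (x : centralizer (V : Set G) ⧸ inner V)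
      rw [← hy]
      have h4 : π (y * ((h.hom.codRestrict _ hcl) s)⁻¹) = 1 := mem1.2 hwV
      rw [map_mul, map_inv, mul_inv_eq_one] at h4
      exact h4.symm
    · rintro ⟨s, rfl⟩
      refine ⟨Subtype.ext ?_, ?_⟩
      · obtain ⟨-, sa, sb⟩ := h.closure_le_K (h.hom_mem_closure s)
        exact fixed _ sa sb
      · rw [hE]
        have hcen : ∀ s : DihedralGroup 4, s * DihedralGroup.r 2 = DihedralGroup.r 2 * s := by decide
        exact (show Commute s (DihedralGroup.r 2) from hcen s).map ψL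
  -- the group of order nine
  have hin : ∀ y, χ y ∈ L := by
    intro y
    have hker : ((QuotientGroup.mk' L).comp χ).ker = ⊤ := by
      rcases (MonoidHom.normal_ker ((QuotientGroup.mk' L).comp χ)).eq_bot_or_eq_top with h1 | h1
      · exact absurd (haveI := hsol; Group.isSolvable_of_isSolvable_injective ((MonoidHom.ker_eq_bot_iff _).1 h1))
          alt_six_not_solvable
      · exact h1
    have hy' : ((QuotientGroup.mk' L).comp χ) y = 1 := by rw [← MonoidHom.mem_ker, hker]; exact mem_top y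
    exact (QuotientGroup.eq_one_iff _).1 hy'
  let χL : alternatingGroup (Fin 6) →* L := χ.codRestrict L hin
  have hχL : Function.Injective χL := fun u v huv => hχ (congrArg Subtype.val huv)
  refine FixedNine.false_of_fixed (hC.subgroup L) hL34 σ (fun x => Subtype.ext (hσσ x.1)) (a := χL a₁) (b := χL b₁)
    (by rw [← map_pow, ha1, map_one]) (by rw [← map_pow, hb1, map_one]) (by rw [← map_mul, hab, map_mul])
    (fun h1 => ha0 (hχL (h1.trans (map_one χL).symm))) (fun h1 => hb0 (hχL (h1.trans (map_one χL).symm)))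
    (fun h1 => hba (hχL h1)) (fun h1 => hba2 (hχL (h1.trans (map_mul χL a₁ a₁).symm)))
    (Subtype.ext (fixed _ (hψC a₁).2.1 (hψC a₁).2.2)) (Subtype.ext (fixed _ (hψC b₁).2.1 (hψC b₁).2.2))
    (e := ⟨π E, hEL⟩) (fun h1 => he1 (congrArg Subtype.val h1)) ψL.range hS
    ⟨(MonoidHom.ofInjective hψL).symm⟩ ⟨_, hE.symm⟩

/-- The element `d`. -/
theorem exists_d [Finite G] : ∃ d : G, d ∈ centralizer (V : Set G) ∧ Commute d a ∧ Commute d b ∧
    Rel d (f * g * (f * g)) f g ∧ P (d * a) := by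
  classical
  haveI : Fact (Nat.Prime 2) := ⟨Nat.prime_two⟩
  obtain ⟨K, hK⟩ : ∃ K : Subgroup G, K = centralizer (V : Set G) ⊓
      (centralizer ({a} : Set G) ⊓ centralizer ({b} : Set G)) := ⟨_, rfl⟩
  have memK : ∀ {x : G}, x ∈ K ↔ x ∈ centralizer (V : Set G) ∧ Commute x a ∧ Commute x b := fun {x} => by
    rw [hK, mem_inf, mem_inf, mem_centralizer_singleton_iff, mem_centralizer_singleton_iff]
    rfl
  have clK : ∀ {x : G}, x ∈ closure ({f, g} : Set G) → x ∈ K := fun hx => memK.2 (h.closure_le_K hx)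
  obtain ⟨e, he⟩ : ∃ e, e = f * g * (f * g) := ⟨_, rfl⟩
  have efK : f ∈ closure ({f, g} : Set G) ∧ g ∈ closure ({f, g} : Set G) :=
    ⟨subset_closure (by simp), subset_closure (by simp)⟩
  let F : K := ⟨f, clK efK.1⟩
  let H : K := ⟨g, clK efK.2⟩
  let E : K := F * H * (F * H)
  have hEe : (E : G) = e := he.symm
  obtain ⟨r, rC, ra, rb, hre, hrf, hr3⟩ := h.exists_three
  let R : K := ⟨r, memK.2 ⟨rC, ra, rb⟩⟩
  have hRE : R * E * R⁻¹ = F := Subtype.ext hre
  have hE1 : E ≠ 1 := fun h1 => h.e_ne_one (congrArg Subtype.val h1)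
  have hEE : E * E = 1 := Subtype.ext h.hee
  have hE2 : orderOf E = 2 := orderOf_eq_prime (by rw [pow_two, hEE]) hE1
  obtain ⟨r', rC', ra', rb', hre', -, -⟩ := h.swap.exists_three
  rw [h.swap_e] at hre'
  let R' : K := ⟨r', memK.2 ⟨rC', ra', rb'⟩⟩
  have hRE' : R' * E * R'⁻¹ = H := Subtype.ext hre'
  let φ : DihedralGroup 4 →* K := h.hom.codRestrict K fun s => clK (h.hom_mem_closure s)
  have hφC : ∀ s, φ s ∈ centralizer ({E} : Set K) := fun s => by
    rw [mem_centralizer_singleton_iff]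
    refine Subtype.ext ?_
    show h.hom s * (E : G) = E * h.hom s
    have hr2 : h.hom (DihedralGroup.r 2) = e := by
      show (f * g) ^ (2 : ZMod 4).val = e
      rw [show (2 : ZMod 4).val = 2 from rfl, pow_two, he]
    have hcen : ∀ s : DihedralGroup 4, s * DihedralGroup.r 2 = DihedralGroup.r 2 * s := by decide
    rw [hEe, ← hr2, ← map_mul, ← map_mul, hcen]
  let φC : DihedralGroup 4 →* centralizer ({E} : Set K) := φ.codRestrict _ hφC
  have hbij : Function.Bijective φC := by
    refine ⟨fun s t hst => h.hom_injective (congrArg (fun x : centralizer ({E} : Set K) => ((x : K) : G)) hst),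
      fun x => ?_⟩
    obtain ⟨⟨x, hxK⟩, hx⟩ := x
    obtain ⟨xC, xa, xb⟩ := memK.1 hxK
    have hxe : Commute x e := by
      have := congrArg Subtype.val (mem_centralizer_singleton_iff.1 hx)
      show x * e = e * x
      rw [← hEe]
      exact this
    obtain ⟨y, hy, hy'⟩ := h.hKe x xa xb (he ▸ hxe)
    rcases hy' with e1 | e1
    · obtain ⟨s, hs⟩ := h.mem_list hy
      exact ⟨s, Subtype.ext (Subtype.ext (hs.trans e1.symm))⟩
    · exfalso
      refine h.hzC ?_
      rw [show a * b * (a * b) = x * y⁻¹ by rw [e1, mul_inv_cancel_right]]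
      exact mul_mem xC (inv_mem (h.closure_le_K hy).1)
  have sgn : ∀ χ : K →* ℤˣ, χ (F * H) ≠ -1 := fun χ h1 => by
    have hE : χ E = 1 := by
      rw [map_mul, h1]; rfl
    have hF : χ F = 1 := by rw [← hRE, map_mul, map_mul, map_inv, hE, mul_one, mul_inv_cancel]
    have hH : χ H = 1 := by rw [← hRE', map_mul, map_mul, map_inv, hE, mul_one, mul_inv_cancel]
    rw [map_mul, hF, hH, one_mul] at h1
    exact absurd h1 (by decide)
  rcases CfsgLib.LocalEvenB.DEight.main E hE2 ⟨(MulEquiv.ofBijective φC hbij).symm⟩ with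
    h1 | ⟨⟨ι⟩⟩ | ⟨⟨ι⟩⟩ | ⟨⟨ι⟩⟩ | ⟨⟨ι⟩⟩
  · exfalso
    haveI : (Cfsg.oddCore K).Normal := CfsgLib.Core.normal_pPrimeCore 2 K
    obtain ⟨y, hy, o, ho, hyo⟩ := mem_sup_of_normal_right.1 (h1 ▸ mem_top R : R ∈ _)
    rw [mem_centralizer_singleton_iff] at hy
    have hmem : F * E ∈ Cfsg.oddCore K := by
      have hc : y * E * y⁻¹ = E := by rw [hy, mul_inv_cancel_right]
      have : F * E = y * (o * (E * o⁻¹ * E⁻¹)) * y⁻¹ := by
        calc F * E = R * E * R⁻¹ * E⁻¹ := by rw [hRE, inv_of hEE]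
          _ = y * (o * E * o⁻¹) * y⁻¹ * (y * E * y⁻¹)⁻¹ := by rw [hc, ← hyo]; group
          _ = _ := by group
      rw [this]
      exact (inferInstance : (Cfsg.oddCore K).Normal).conj_mem _
        (mul_mem ho ((inferInstance : (Cfsg.oddCore K).Normal).conj_mem _ (inv_mem ho) E)) y
    have hsq : (F * E) * (F * E) = 1 := Subtype.ext (by
      show f * (f * g * (f * g)) * (f * (f * g * (f * g))) = 1
      rw [mul_assoc, ← mul_assoc (f * g * (f * g)) f, h.cef, mul_assoc f (f * g * (f * g)), h.hee, mul_one, h.hf])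
    have hodd : Odd (orderOf (F * E)) := (CfsgLib.ZStar.odd_card_oddCore K).of_dvd_nat
      (Subgroup.orderOf_dvd_natCard _ hmem)
    have hone : F * E = 1 := orderOf_eq_one_iff.1 (Nat.eq_one_of_dvd_coprimes (Nat.coprime_two_left.2 hodd)
      (orderOf_dvd_of_pow_eq_one (by rw [pow_two, hsq])) (dvd_refl _))
    have hfe : f = e := by
      have := congrArg Subtype.val (eq_inv_of_mul_eq_one_left hone)
      rw [show ((E⁻¹ : K) : G) = e from by rw [inv_of hEE]; exact hEe] at this
      exact this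
    apply h.e_ne_one
    rw [← he]
    have hgfg : g * f * g = f * e := by
      calc g * f * g = (f * f) * g * f * g := by rw [h.hf, one_mul]
        _ = f * e := by rw [he]; simp only [mul_assoc]
    rw [← hfe, h.hf] at hgfg
    have hf1 : f = 1 := by
      calc f = (g * g) * f * (g * g) := by rw [h.hg, one_mul, mul_one]
        _ = g * (g * f * g) * g := by simp only [mul_assoc]
        _ = 1 := by rw [hgfg, mul_one, h.hg]
    rw [← hfe, hf1]
  · refine (sgn (Equiv.Perm.sign.comp ι.toMonoidHom) (perm_sign_of_four.1 (ι (F * H)) ?_ ?_)).elim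
    · rw [← map_mul, ← map_mul, hEE, map_one]
    · rw [← map_mul]
      exact fun h1 => hE1 (ι.map_eq_one_iff.1 h1)
  · refine (sgn (Equiv.Perm.sign.comp ι.toMonoidHom) (perm_sign_of_four.2 (ι (F * H)) ?_ ?_)).elim
    · rw [← map_mul, ← map_mul, hEE, map_one]
    · rw [← map_mul]
      exact fun h1 => hE1 (ι.map_eq_one_iff.1 h1)
  · obtain ⟨D, hD, hDF, hDH, hDE⟩ := SLThreeTwo.exists_opposite (f := ι F) (g := ι H)
      (by rw [← map_mul, show F * F = 1 from Subtype.ext h.hf, map_one])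
      (by rw [← map_mul, show H * H = 1 from Subtype.ext h.hg, map_one])
      (by rw [← map_mul, ← map_mul]; exact fun h1 => hE1 (ι.map_eq_one_iff.1 h1))
      (by rw [← map_mul, ← map_mul, ← map_mul, hEE, map_one])
    obtain ⟨d, hd⟩ : ∃ d : K, ι d = D := ι.surjective D
    subst hd
    obtain ⟨dC, da, db⟩ := memK.1 d.2
    rw [← map_mul, ← map_pow, ι.map_eq_one_iff] at hDF hDH
    rw [← map_mul, ι.map_eq_one_iff] at hD
    rw [← map_mul, ← map_mul, ← map_mul, ← map_pow, ι.map_eq_one_iff] at hDE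
    have hde : (d : G) * d = 1 := congrArg Subtype.val hD
    have hrel : Rel (d : G) (f * g * (f * g)) f g := ⟨hde, h.hee, h.hf, h.hg, rfl, congrArg Subtype.val hDE,
      congrArg Subtype.val hDF, congrArg Subtype.val hDH, h.e_ne_one⟩
    refine ⟨d, dC, da, db, hrel, ?_⟩
    -- `d` is conjugate to `e` by an element commuting with `a`
    have hbr := braid hrel.hd hrel.he hrel.hde
    have hconj : (d : G) = (f * g * (f * g) * d) * (f * g * (f * g)) * (f * g * (f * g) * d)⁻¹ := by
      have gen : ∀ x y : G, x * x = 1 → y * y = 1 → y * x * y = x * y * x → y = (x * y) * x * (x * y)⁻¹ :=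
        fun x y hx hy hxy => by
          rw [_root_.mul_inv_rev, inv_of hx, inv_of hy]
          calc y = (x * x) * y * (x * x) := by rw [hx, one_mul, mul_one]
            _ = x * (x * y * x) * x := by simp only [mul_assoc]
            _ = x * (y * x * y) * x := by rw [hxy]
            _ = _ := by simp only [mul_assoc]
      exact gen _ _ hrel.he hrel.hd hbr
    have hka : Commute (f * g * (f * g) * (d : G)) a :=
      ((h.fa.mul_left h.ga).mul_left (h.fa.mul_left h.ga)).mul_left da
    have := h.hP (f * g * (f * g) * (d : G)) _ h.hea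
    rwa [show (f * g * (f * g) * (d : G)) * (f * g * (f * g) * a) * (f * g * (f * g) * (d : G))⁻¹ = d * a by
      conv_rhs => rw [hconj]
      rw [mul_assoc ((f * g * (f * g) * (d : G)) * (f * g * (f * g))) _⁻¹ a, hka.inv_left.eq]
      simp only [mul_assoc]] at this
  · exfalso
    refine h.alt_six_false (K.subtype.comp ι.symm.toMonoidHom) (Subtype.val_injective.comp ι.symm.injective)
      (fun x => memK.1 (ι.symm x).2) fun x h1 h2 h3 => ⟨ι ⟨x, memK.2 ⟨h1, h2, h3⟩⟩, by simp⟩

/-- All relators in which `d` occurs. -/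
theorem relators [Finite G] (hcu : ∀ z ∈ V, P (c * z) → z = 1) :
    ∃ d : G, Commute d a ∧ Commute d b ∧ Rel d (f * g * (f * g)) f g ∧
      (c * d) ^ 5 = a ∧ (c * d * f * g) ^ 4 = 1 := by
  obtain ⟨d, dC, da, db, hrel, hPd⟩ := h.exists_d
  obtain ⟨h5, h4⟩ := lifted_relations P h.hP h.hV h.hsq h.hcit hrel h.ha h.cC dC h.fC h.gC h.heV h.hc2 h.hcV
    h.hceV h.hcf h.hcg hcu hPd
  exact ⟨d, da, db, hrel, h5, h4⟩

end FourData

end CfsgLib.Recog.HeldType
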