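import Cfsg.Agent.Lib.Classical.PSLThreeFour
import Cfsg.Agent.Lib.Classical.SmallOrtho.UFourTwoData

/-!
# Five involutions of `PSL(3, 4)`

If `f`, `g` are involutions with product of order four, `e = (fg)²`, `c ≠ e` is an involution commuting with `f`
and `g`, and `d` is an involution with `df`, `dg`, `de` of order three, then `(cd)⁵ = 1` and `(cdfg)⁴ = 1`.
-/

set_option autoImplicit false

open Matrix

namespace CfsgLib.Recog.HeldType.Elation

variable {F : Type*} [Field F]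

/-- A rank one square-zero perturbation of the identity. -/
def Tv (X : Matrix (Fin 3) (Fin 3) F) : Prop :=
  ∃ u w : Fin 3 → F, u ≠ 0 ∧ w ≠ 0 ∧ w ⬝ᵥ u = 0 ∧ X = 1 + vecMulVec u w

theorem tv_of_isTransvection {X : Matrix (Fin 3) (Fin 3) F} (h : Cfsg.IsTransvection X) : Tv X := by
  obtain ⟨a, φ, ha, hφ, hd, he⟩ := CfsgLib.Known.Transvections.exists_vecMulVec X h
  exact ⟨a, φ, ha, hφ, hd, by rw [← he]; abel⟩

theorem one_add_mulVec (u w v : Fin 3 → F) :
    (1 + vecMulVec u w) *ᵥ v = v + (w ⬝ᵥ v) • u := by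
  rw [add_mulVec, one_mulVec, vecMulVec_mulVec]
  congr 1
  funext i
  simp [mul_comm]

section Two

variable (h2 : (2 : F) = 0)
include h2

theorem Tv.sq {X : Matrix (Fin 3) (Fin 3) F} (hX : Tv X) : X * X = 1 := by
  obtain ⟨u, w, -, -, hd, rfl⟩ := hX
  have h : vecMulVec u w * vecMulVec u w = 0 := by
    rw [vecMulVec_mul_vecMulVec, hd, zero_smul, vecMulVec_zero]
  rw [add_mul, one_mul, mul_add, mul_one, h, add_zero, add_assoc, ← two_smul F (vecMulVec u w), h2,
    zero_smul, add_zero]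

omit h2 in
/-- A scalar power of a product of two transvections is trivial. -/
theorem pow_scalar {X Y : Matrix (Fin 3) (Fin 3) F} (hX : Tv X) (hY : Tv Y) {k : ℕ} {r : F}
    (h : (X * Y) ^ k = r • 1) : (X * Y) ^ k = 1 := by
  obtain ⟨u, w, -, -, -, rfl⟩ := hX
  obtain ⟨v, z, -, -, -, rfl⟩ := hY
  obtain ⟨p, hp, hp0⟩ : ∃ p : Fin 3 → F, p ∈ LinearMap.ker (Matrix.mulVecLin (!![w 0, w 1, w 2; z 0, z 1, z 2])) ∧
      p ≠ 0 := by
    by_contra hc
    push Not at hc
    have hinj : Function.Injective (Matrix.mulVecLin (!![w 0, w 1, w 2; z 0, z 1, z 2])) :=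
      LinearMap.ker_eq_bot.1 ((Submodule.eq_bot_iff _).2 hc)
    have := LinearMap.finrank_le_finrank_of_injective hinj
    simp at this
  rw [LinearMap.mem_ker, Matrix.mulVecLin_apply] at hp
  have hwp : w ⬝ᵥ p = 0 := by
    have h1 := congrFun hp 0
    simp [mulVec, dotProduct, Fin.sum_univ_three] at h1 ⊢
    exact h1
  have hzp : z ⬝ᵥ p = 0 := by
    have h1 := congrFun hp 1
    simp [mulVec, dotProduct, Fin.sum_univ_three] at h1 ⊢
    exact h1
  have hfix : ∀ n : ℕ, ((1 + vecMulVec u w) * (1 + vecMulVec v z)) ^ n *ᵥ p = p := by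
    intro n
    induction n with
    | zero => simp
    | succ n ih =>
      rw [pow_succ, ← mulVec_mulVec, ← mulVec_mulVec, one_add_mulVec v z p, hzp, zero_smul, add_zero,
        one_add_mulVec u w p, hwp, zero_smul, add_zero, ih]
  have h1 := hfix k
  rw [h, smul_mulVec, one_mulVec] at h1
  have hr : r = 1 := by
    by_contra hr
    refine hp0 ?_
    have : (r - 1) • p = 0 := by rw [sub_smul, one_smul, h1, sub_self]
    exact (smul_eq_zero.1 this).resolve_left (sub_ne_zero.2 hr)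
  rw [h, hr, one_smul]

omit h2 in
theorem act_first (u w v z : Fin 3 → F) (hu : w ⬝ᵥ u = 0) (a b : F) (hb : z ⬝ᵥ u = b) (ha : w ⬝ᵥ v = a) :
    ((1 + vecMulVec u w) * (1 + vecMulVec v z)) *ᵥ u = (1 + a * b) • u + b • v := by
  rw [← mulVec_mulVec, one_add_mulVec v z u, hb, one_add_mulVec, dotProduct_add, dotProduct_smul, hu, ha,
    smul_eq_mul]
  module

omit h2 in
theorem act_second (u w v z : Fin 3 → F) (hv : z ⬝ᵥ v = 0) (a : F) (ha : w ⬝ᵥ v = a) :
    ((1 + vecMulVec u w) * (1 + vecMulVec v z)) *ᵥ v = v + a • u := by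
  rw [← mulVec_mulVec, one_add_mulVec v z v, hv, zero_smul, add_zero, one_add_mulVec, ha]

omit h2 in
theorem indep {u w v : Fin 3 → F} (hu : w ⬝ᵥ u = 0) (hu0 : u ≠ 0) (ha : w ⬝ᵥ v ≠ 0) {p q : F}
    (h : p • u + q • v = 0) : p = 0 ∧ q = 0 := by
  have h1 := congrArg (w ⬝ᵥ ·) h
  simp only [dotProduct_add, dotProduct_smul, hu, smul_eq_mul, mul_zero, zero_add, dotProduct_zero] at h1
  have hq : q = 0 := (mul_eq_zero.1 h1).resolve_right ha
  rw [hq, zero_smul, add_zero] at h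
  exact ⟨(smul_eq_zero.1 h).resolve_right hu0, hq⟩

/-- Product of order three: both incidences fail and the invariant is one. -/
theorem tau_of_cube {u w v z : Fin 3 → F} (hu : w ⬝ᵥ u = 0) (hv : z ⬝ᵥ v = 0) (hu0 : u ≠ 0)
    (h3 : ((1 + vecMulVec u w) * (1 + vecMulVec v z)) ^ 3 = 1)
    (h1 : (1 + vecMulVec u w) * (1 + vecMulVec v z) ≠ 1) :
    (w ⬝ᵥ v) * (z ⬝ᵥ u) = 1 := by
  set N := vecMulVec u w
  set M := vecMulVec v z
  have hNN : N * N = 0 := by rw [vecMulVec_mul_vecMulVec, hu, zero_smul, vecMulVec_zero]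
  have hMM : M * M = 0 := by rw [vecMulVec_mul_vecMulVec, hv, zero_smul, vecMulVec_zero]
  have two : ∀ K : Matrix (Fin 3) (Fin 3) F, K + K = 0 := fun K => by rw [← two_smul F K, h2, zero_smul]
  by_cases ha : w ⬝ᵥ v = 0
  · have hNM : N * M = 0 := by rw [vecMulVec_mul_vecMulVec, ha, zero_smul, vecMulVec_zero]
    exfalso
    have hZ : (1 + N) * (1 + M) = 1 + N + M := by
      rw [add_mul, one_mul, mul_add, mul_one, hNM, add_zero]; abel
    have h2' : (1 + N + M) * (1 + N + M) = 1 + M * N := by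
      simp only [add_mul, mul_add, one_mul, mul_one, hNN, hMM, hNM]
      have e1 := two N; have e2 := two M
      linear_combination (norm := abel) e1 + e2
    rw [pow_succ, pow_two, hZ, h2'] at h3
    have e : N + M + M * N = 0 := by
      rw [add_mul, one_mul, mul_add, mul_add, mul_one, mul_assoc, hNN, mul_zero, add_zero, mul_assoc, hNM,
        mul_zero, add_zero] at h3
      linear_combination (norm := abel) h3
    have hMN : M * N = 0 := by
      have := congrArg (M * ·) e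
      rw [mul_add, mul_add, ← mul_assoc, hMM, zero_mul, add_zero, add_zero, mul_zero] at this
      exact this
    rw [hMN, add_zero] at e
    exact h1 (by rw [hZ, add_assoc, e, add_zero])
  · set a := w ⬝ᵥ v with hadef
    set b := z ⬝ᵥ u with hbdef
    set Z := (1 + N) * (1 + M)
    have e1 : Z *ᵥ u = (1 + a * b) • u + b • v := act_first u w v z hu a b rfl rfl
    have e2 : Z *ᵥ v = v + a • u := act_second u w v z hv a rfl
    have e3 := congrArg (· *ᵥ u) h3
    have e4 := congrArg (· *ᵥ v) h3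
    rw [pow_succ, pow_succ, pow_one, ← mulVec_mulVec, ← mulVec_mulVec] at e3 e4
    simp only [e1, e2, mulVec_add, mulVec_smul, one_mulVec, smul_add, smul_smul] at e3 e4
    have k4 : (a * (1 + a * b) * (1 + a * b) + a * b * a + a * (1 + a * b) + a) • u +
        (a * b * (1 + a * b) + a * b + a * b) • v = 0 := by
      linear_combination (norm := module) e4
    obtain ⟨k1, k2⟩ := indep hu hu0 ha k4
    have k1' : a * ((a * b) * (a * b) + 1) = 0 := by linear_combination k1 - (a + 2 * (a * a * b)) * h2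
    have k : (a * b - 1) * (a * b - 1) = 0 := by
      linear_combination ((mul_eq_zero.1 k1').resolve_left ha) - (a * b) * h2
    exact sub_eq_zero.1 (mul_self_eq_zero.1 k)

/-- Product of order four: exactly one incidence fails. -/
theorem zero_of_fourth {u w v z : Fin 3 → F} (hu : w ⬝ᵥ u = 0) (hv : z ⬝ᵥ v = 0) (hu0 : u ≠ 0)
    (h4 : ((1 + vecMulVec u w) * (1 + vecMulVec v z)) ^ 4 = 1)
    (h1 : ((1 + vecMulVec u w) * (1 + vecMulVec v z)) ^ 2 ≠ 1) :
    (w ⬝ᵥ v ≠ 0 ∧ z ⬝ᵥ u = 0) ∨ (w ⬝ᵥ v = 0 ∧ z ⬝ᵥ u ≠ 0) := by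
  set N := vecMulVec u w
  set M := vecMulVec v z
  by_cases ha : w ⬝ᵥ v = 0
  · refine Or.inr ⟨ha, fun hb => h1 ?_⟩
    have hNN : N * N = 0 := by rw [vecMulVec_mul_vecMulVec, hu, zero_smul, vecMulVec_zero]
    have hMM : M * M = 0 := by rw [vecMulVec_mul_vecMulVec, hv, zero_smul, vecMulVec_zero]
    have hNM : N * M = 0 := by rw [vecMulVec_mul_vecMulVec, ha, zero_smul, vecMulVec_zero]
    have hMN : M * N = 0 := by rw [vecMulVec_mul_vecMulVec, hb, zero_smul, vecMulVec_zero]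
    rw [pow_two]
    simp only [add_mul, mul_add, one_mul, mul_one, hNN, hMM, hNM, hMN, add_zero]
    have e1 : N + N = 0 := by rw [← two_smul F N, h2, zero_smul]
    have e2 : M + M = 0 := by rw [← two_smul F M, h2, zero_smul]
    linear_combination (norm := abel) e1 + e2
  · refine Or.inl ⟨ha, ?_⟩
    set a := w ⬝ᵥ v with hadef
    set b := z ⬝ᵥ u with hbdef
    set Z := (1 + N) * (1 + M)
    have e1 : Z *ᵥ u = (1 + a * b) • u + b • v := act_first u w v z hu a b rfl rfl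
    have e2 : Z *ᵥ v = v + a • u := act_second u w v z hv a rfl
    have e4 := congrArg (· *ᵥ v) h4
    rw [pow_succ, pow_succ, pow_succ, pow_one, ← mulVec_mulVec, ← mulVec_mulVec, ← mulVec_mulVec] at e4
    simp only [e1, e2, mulVec_add, mulVec_smul, one_mulVec, smul_add, smul_smul] at e4
    have k4 : (a * (1 + a * b) ^ 3 + 2 * a * a * b * (1 + a * b) + a * (1 + a * b) ^ 2 + 2 * a * a * b +
        a * (1 + a * b) + a) • u + (a * b * (1 + a * b) ^ 2 + 2 * a * b * (1 + a * b) + a * b * a * b + 3 * a * b) • v = 0 := by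
      linear_combination (norm := module) e4
    obtain ⟨k1, k2⟩ := indep hu hu0 ha k4
    have k : a * (a * b) ^ 3 = 0 := by
      linear_combination k1 - (2 * a + 5 * (a * a * b) + 3 * (a * a * a * b * b)) * h2
    rcases mul_eq_zero.1 k with h | h
    · exact absurd h ha
    · exact (mul_eq_zero.1 (pow_eq_zero_iff (by norm_num) |>.1 h)).resolve_left ha

end Two

/-- The standard pair and the two remaining elements. -/
def fM (R : Type*) [Zero R] [One R] : Matrix (Fin 3) (Fin 3) R := !![1, 1, 0; 0, 1, 0; 0, 0, 1]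
@[inherit_doc fM]
def gM (R : Type*) [Zero R] [One R] : Matrix (Fin 3) (Fin 3) R := !![1, 0, 0; 0, 1, 1; 0, 0, 1]
@[inherit_doc fM]
def cM {R : Type*} [Zero R] [One R] (c : R) : Matrix (Fin 3) (Fin 3) R := !![1, 0, c; 0, 1, 0; 0, 0, 1]
@[inherit_doc fM]
def dM (R : Type*) [Zero R] [One R] : Matrix (Fin 3) (Fin 3) R := !![1, 0, 0; 1, 0, 1; 1, 1, 0]

open CfsgLib.Classical.UFourTwo in
theorem facts_four : ∀ c : FieldFour, c ≠ 0 → c ≠ 1 →
    ((cM c * dM FieldFour) ^ 5 = 1) ∧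
    (∃ r : FieldFour, (cM c * dM FieldFour * fM FieldFour * gM FieldFour) ^ 4 = r • 1) ∧
    (∃ r : FieldFour, (cM c * dM FieldFour * gM FieldFour * fM FieldFour) ^ 4 = r • 1) := by
  decide +kernel

section Frame

variable (h2 : (2 : F) = 0)
include h2

omit h2 in
theorem Tv.conj {X : Matrix (Fin 3) (Fin 3) F} (hX : Tv X) (P : GL (Fin 3) F) :
    Tv ((P⁻¹ : GL (Fin 3) F).1 * X * P.1) := by
  obtain ⟨u, w, hu, hw, hd, rfl⟩ := hX
  have hP : (P⁻¹ : GL (Fin 3) F).1 * P.1 = 1 := P.inv_mul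
  have hP' : P.1 * (P⁻¹ : GL (Fin 3) F).1 = 1 := P.mul_inv
  refine ⟨(P⁻¹ : GL (Fin 3) F).1 *ᵥ u, w ᵥ* P.1, fun h => hu ?_, fun h => hw ?_, ?_, ?_⟩
  · rw [← one_mulVec u, ← hP', ← mulVec_mulVec, h, mulVec_zero]
  · rw [← vecMul_one w, ← hP', ← vecMul_vecMul, h, zero_vecMul]
  · rw [dotProduct_mulVec, vecMul_vecMul, hP', vecMul_one, hd]
  · rw [mul_add, mul_one, add_mul, hP, mul_vecMulVec, vecMulVec_mul]

omit h2 in
theorem exists_frame {u w v z : Fin 3 → F} (hu : w ⬝ᵥ u = 0) (hv : z ⬝ᵥ v = 0) (hu0 : u ≠ 0) (hz0 : z ≠ 0)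
    (ha : w ⬝ᵥ v ≠ 0) (hb : z ⬝ᵥ u = 0) :
    ∃ P : GL (Fin 3) F, (1 + vecMulVec u w) * P.1 = P.1 * fM F ∧ (1 + vecMulVec v z) * P.1 = P.1 * gM F := by
  set a := w ⬝ᵥ v
  obtain ⟨p, hp1, hp2⟩ : ∃ p : Fin 3 → F, w ⬝ᵥ p = 0 ∧ z ⬝ᵥ p = 1 := by
    by_contra hc
    push Not at hc
    refine hz0 (funext fun i => ?_)
    set q : Fin 3 → F := Pi.single i 1 - (a⁻¹ * (w ⬝ᵥ Pi.single i 1)) • v with hq
    have h1 : w ⬝ᵥ q = 0 := by
      rw [hq, dotProduct_sub, dotProduct_smul, smul_eq_mul, mul_comm a⁻¹, mul_assoc, inv_mul_cancel₀ ha,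
        mul_one, sub_self]
    have h2' : z ⬝ᵥ q = z i := by
      rw [hq, dotProduct_sub, dotProduct_smul, hv, smul_zero, sub_zero]
      simp
    by_contra hne
    refine hc ((z i)⁻¹ • q) (by rw [dotProduct_smul, h1, smul_zero]) ?_
    rw [dotProduct_smul, h2', smul_eq_mul, inv_mul_cancel₀ hne]
  let M : Matrix (Fin 3) (Fin 3) F :=
    !![a * u 0, v 0, p 0; a * u 1, v 1, p 1; a * u 2, v 2, p 2]
  have hM : ∀ x : Fin 3 → F, M *ᵥ x = (x 0 * a) • u + x 1 • v + x 2 • p := by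
    intro x
    funext i
    fin_cases i <;> simp [M, mulVec, dotProduct, Fin.sum_univ_three] <;> ring
  have hinj : Function.Injective M.mulVec := by
    intro x y hxy
    have h0 : M *ᵥ (x - y) = 0 := by
      rw [mulVec_sub, sub_eq_zero]
      exact hxy
    rw [hM] at h0
    have h1 := congrArg (w ⬝ᵥ ·) h0
    have h2' := congrArg (z ⬝ᵥ ·) h0
    simp only [dotProduct_add, dotProduct_smul, hu, hv, hb, hp1, hp2, smul_eq_mul, mul_zero, zero_add,
      add_zero, mul_one, dotProduct_zero] at h1 h2'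
    have h1' : (x - y) 1 = 0 := (mul_eq_zero.1 h1).resolve_right ha
    rw [h1', h2', zero_smul, zero_smul, add_zero, add_zero] at h0
    have h0' := ((mul_eq_zero.1 ((smul_eq_zero.1 h0).resolve_right hu0)).resolve_right ha)
    funext i
    rw [← sub_eq_zero]
    fin_cases i
    exacts [h0', h1', h2']
  refine ⟨(Matrix.mulVec_injective_iff_isUnit.1 hinj).unit, ?_, ?_⟩
  · refine Matrix.ext_iff_mulVec.2 fun x => ?_
    rw [IsUnit.unit_spec, ← mulVec_mulVec, ← mulVec_mulVec, hM, hM, one_add_mulVec]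
    simp only [dotProduct_add, dotProduct_smul, hu, hp1, smul_eq_mul, mul_zero, zero_add, add_zero]
    rw [show fM F *ᵥ x = ![x 0 + x 1, x 1, x 2] by funext i; fin_cases i <;> simp [fM, mulVec, dotProduct, Fin.sum_univ_three]]
    simp
    module
  · refine Matrix.ext_iff_mulVec.2 fun x => ?_
    rw [IsUnit.unit_spec, ← mulVec_mulVec, ← mulVec_mulVec, hM, hM, one_add_mulVec]
    simp only [dotProduct_add, dotProduct_smul, hb, hv, hp2, smul_eq_mul, mul_zero, zero_add, add_zero, mul_one]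
    rw [show gM F *ᵥ x = ![x 0, x 1 + x 2, x 2] by funext i; fin_cases i <;> simp [gM, mulVec, dotProduct, Fin.sum_univ_three]]
    simp
    module

theorem central_form {C : Matrix (Fin 3) (Fin 3) F} (hC : Tv C) (hf : C * fM F = fM F * C)
    (hg : C * gM F = gM F * C) (hne : C ≠ cM 1) : ∃ c : F, c ≠ 0 ∧ c ≠ 1 ∧ C = cM c := by
  have e : ∀ i j, (C * fM F) i j = (fM F * C) i j := fun i j => by rw [hf]
  have e' : ∀ i j, (C * gM F) i j = (gM F * C) i j := fun i j => by rw [hg]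
  have a1 := e 0 1; have a2 := e 0 0; have a3 := e 2 1; have a4 := e 0 2
  have b1 := e' 1 2; have b2 := e' 1 1; have b3 := e' 0 2; have b4 := e' 1 0
  simp [fM, gM, Matrix.mul_apply, Fin.sum_univ_three] at a1 a2 a3 a4 b1 b2 b3 b4
  have hs : ∀ i, (C * C) i i = 1 := fun i => by rw [hC.sq h2]; simp
  have s0 := hs 0
  simp [Matrix.mul_apply, Fin.sum_univ_three] at s0
  have h21 : C 1 0 = 0 := a2
  have h31 : C 2 0 = 0 := a3
  have h32 : C 2 1 = 0 := b2
  have h12 : C 0 1 = 0 := b3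
  have h23 : C 1 2 = 0 := a4
  have h11 : C 0 0 = C 1 1 := by linear_combination a1
  have h22 : C 1 1 = C 2 2 := by linear_combination b1
  rw [h12, h31] at s0
  simp only [zero_mul, mul_zero, add_zero] at s0
  have hone : C 0 0 = 1 := by
    have : (C 0 0 - 1) * (C 0 0 - 1) = 0 := by linear_combination s0 - (C 0 0 - 1) * h2
    exact sub_eq_zero.1 (mul_self_eq_zero.1 this)
  have hform : C = cM (C 0 2) := by
    ext i j
    fin_cases i <;> fin_cases j <;> simp [cM, h21, h31, h32, h12, h23, hone, ← h22, ← h11]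
  refine ⟨C 0 2, fun h => ?_, fun h => hne (by rw [hform, h]), hform⟩
  obtain ⟨u, w, hu, hw, -, he⟩ := hC
  have h1 : vecMulVec u w = 0 := by
    have : C = 1 := by
      rw [hform, h]
      ext i j
      fin_cases i <;> fin_cases j <;> simp [cM]
    rw [he] at this
    simpa using this
  rcases vecMulVec_eq_zero.1 h1 with h | h
  exacts [hu h, hw h]

theorem dM_conj {D : Matrix (Fin 3) (Fin 3) F} {u w : Fin 3 → F} (hd : w ⬝ᵥ u = 0)
    (hD : D = 1 + vecMulVec u w) (t1 : w 0 * u 1 = 1) (t2 : w 1 * u 2 = 1) (t3 : w 0 * u 2 = 1) :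
    ∃ p : F, D = cM p * dM F * cM p := by
  have hw : w 1 = w 0 := by
    have hz : u 2 ≠ 0 := fun h => by simp [h] at t3
    exact mul_right_cancel₀ hz (t2.trans t3.symm)
  have hu : u 2 = u 1 := by
    have hz : w 0 ≠ 0 := fun h => by simp [h] at t3
    exact mul_left_cancel₀ hz (t3.trans t1.symm)
  rw [dotProduct, Fin.sum_univ_three, hw, hu] at hd
  refine ⟨u 0 * w 0, ?_⟩
  subst hD
  ext i j
  fin_cases i <;> fin_cases j <;>
    simp [cM, dM, Matrix.mul_apply, Fin.sum_univ_three, vecMulVec_apply, hw, hu]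
  all_goals first
    | linear_combination t1
    | linear_combination t1 + h2
    | linear_combination hd - t1 - (u 0 * w 0 + 1) * h2
    | linear_combination hd - t1 - (u 0 * w 0) * h2
    | linear_combination u 0 * w 0 * (hd - t1) - u 0 * w 2 * t1 - (u 0 * w 0 * (u 0 * w 0) + u 0 * w 0) * h2

end Frame

open CfsgLib.Classical.UFourTwo in
theorem core (h2 : (2 : F) = 0) (φ : FieldFour →+* F) (hφ : Function.Surjective φ)
    {X Y C D : Matrix (Fin 3) (Fin 3) F} (hX : Tv X) (hY : Tv Y) (hC : Tv C) (hD : Tv D)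
    (h4 : (X * Y) ^ 4 = 1) (h42 : (X * Y) ^ 2 ≠ 1) (hCX : C * X = X * C) (hCY : C * Y = Y * C)
    (hne : C ≠ (X * Y) ^ 2)
    (dX : (D * X) ^ 3 = 1) (dX1 : D * X ≠ 1) (dY : (D * Y) ^ 3 = 1) (dY1 : D * Y ≠ 1)
    (dE : ∃ r : F, (D * (X * Y) ^ 2) ^ 3 = r • 1) (dE1 : D * (X * Y) ^ 2 ≠ 1) :
    (C * D) ^ 5 = 1 ∧ ∃ r : F, (C * D * X * Y) ^ 4 = r • 1 := by
  obtain ⟨u, w, hu0, hw0, hu, rfl⟩ := hX
  obtain ⟨v, z, hv0, hz0, hv, rfl⟩ := hY
  obtain ⟨A, B, sw, hA, hB⟩ : ∃ (P : GL (Fin 3) F) (Xf Yf : Matrix (Fin 3) (Fin 3) F),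
      ((Xf = fM F ∧ Yf = gM F) ∨ (Xf = gM F ∧ Yf = fM F)) ∧
        ((1 + vecMulVec u w) * P.1 = P.1 * Xf ∧ (1 + vecMulVec v z) * P.1 = P.1 * Yf) := by
    rcases zero_of_fourth h2 hu hv hu0 h4 h42 with ⟨ha, hb⟩ | ⟨ha, hb⟩
    · obtain ⟨P, h, h'⟩ := exists_frame hu hv hu0 hz0 ha hb
      exact ⟨P, _, _, Or.inl ⟨rfl, rfl⟩, h, h'⟩
    · obtain ⟨P, h, h'⟩ := exists_frame hv hu hv0 hw0 hb ha
      exact ⟨P, _, _, Or.inr ⟨rfl, rfl⟩, h', h⟩
  set X := 1 + vecMulVec u w
  set Y := 1 + vecMulVec v z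
  let cj : Matrix (Fin 3) (Fin 3) F →* Matrix (Fin 3) (Fin 3) F :=
    { toFun := fun K => (A⁻¹ : GL (Fin 3) F).1 * K * A.1
      map_one' := by rw [mul_one, A.inv_mul]
      map_mul' := fun K L => by
        calc _ = (A⁻¹ : GL (Fin 3) F).1 * K * 1 * L * A.1 := by simp only [mul_one, mul_assoc]
          _ = _ := by rw [← A.mul_inv]; simp only [mul_assoc] }
  have hinj : Function.Injective cj := fun K L h => by
    have h' : A.1 * ((A⁻¹ : GL (Fin 3) F).1 * K * A.1) * (A⁻¹ : GL (Fin 3) F).1 =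
        A.1 * ((A⁻¹ : GL (Fin 3) F).1 * L * A.1) * (A⁻¹ : GL (Fin 3) F).1 := by
      exact congrArg (fun T => A.1 * T * (A⁻¹ : GL (Fin 3) F).1) h
    simpa [mul_assoc, ← mul_assoc A.1] using h'
  have hsmul : ∀ r : F, cj (r • 1) = r • 1 := fun r => by
    show (A⁻¹ : GL (Fin 3) F).1 * (r • 1) * A.1 = r • 1
    rw [Matrix.mul_smul, mul_one, Matrix.smul_mul, A.inv_mul]
  have eX : cj X = B := by
    show (A⁻¹ : GL (Fin 3) F).1 * X * A.1 = B
    rw [mul_assoc, hB.1, ← mul_assoc, A.inv_mul, one_mul]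
  have eY : cj Y = sw := by
    show (A⁻¹ : GL (Fin 3) F).1 * Y * A.1 = sw
    rw [mul_assoc, hB.2, ← mul_assoc, A.inv_mul, one_mul]
  have e0 : fM F = 1 + vecMulVec (Pi.single 0 1) (Pi.single 1 1) := by
    ext i j; fin_cases i <;> fin_cases j <;> simp [fM, vecMulVec_apply]
  have e1 : gM F = 1 + vecMulVec (Pi.single 1 1) (Pi.single 2 1) := by
    ext i j; fin_cases i <;> fin_cases j <;> simp [gM, vecMulVec_apply]
  have e2 : cM (1 : F) = 1 + vecMulVec (Pi.single 0 1) (Pi.single 2 1) := by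
    ext i j; fin_cases i <;> fin_cases j <;> simp [cM, vecMulVec_apply]
  have eE : cj ((X * Y) ^ 2) = cM 1 := by
    rw [map_pow, map_mul, eX, eY, pow_two]
    rcases hA with ⟨rfl, rfl⟩ | ⟨rfl, rfl⟩ <;>
      (ext i j; fin_cases i <;> fin_cases j <;>
        simp [fM, gM, cM, Matrix.mul_apply, Fin.sum_univ_three] <;> linear_combination h2)
  have hCc : Tv (cj C) := hC.conj A
  have hDc : Tv (cj D) := hD.conj A
  have cm : ∀ {K}, C * K = K * C → cj C * cj K = cj K * cj C := fun {K} h => by rw [← map_mul, h, map_mul]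
  obtain ⟨c, hc0, hc1, hc⟩ := central_form h2 hCc
    (by rcases hA with ⟨h, -⟩ | ⟨-, h⟩
        · rw [← h, ← eX]; exact cm hCX
        · rw [← h, ← eY]; exact cm hCY)
    (by rcases hA with ⟨-, h⟩ | ⟨h, -⟩
        · rw [← h, ← eY]; exact cm hCY
        · rw [← h, ← eX]; exact cm hCX)
    (fun h => hne (hinj (by rw [h, eE])))
  obtain ⟨s, q, hs0, -, hs, hDeq⟩ := hDc
  have tau : ∀ (K : Matrix (Fin 3) (Fin 3) F) (i j : Fin 3), i ≠ j →
      cj K = 1 + vecMulVec (Pi.single i 1) (Pi.single j 1) → (D * K) ^ 3 = 1 → D * K ≠ 1 →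
      q i * s j = 1 := by
    intro K i j hij hK h3 hn
    have h3' : (cj D * cj K) ^ 3 = 1 := by rw [← map_mul, ← map_pow, h3, map_one]
    have hn' : cj D * cj K ≠ 1 := fun h => hn (hinj (by rw [map_mul, map_one, h]))
    rw [hDeq, hK] at h3' hn'
    have := tau_of_cube h2 hs (by simp [hij.symm]) hs0 h3' hn'
    simpa using this
  have hEtv : Tv (cM (1 : F)) :=
    ⟨_, _, fun h => by simpa using congrFun h 0, fun h => by simpa using congrFun h 2, by simp, e2⟩
  have dE' : (D * (X * Y) ^ 2) ^ 3 = 1 := by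
    obtain ⟨r, hr⟩ := dE
    refine hinj ?_
    rw [map_one, map_pow, map_mul, eE]
    refine pow_scalar ⟨s, q, hs0, ?_, hs, hDeq⟩ hEtv (r := r) ?_
    · intro h
      rw [h, vecMulVec_zero, add_zero] at hDeq
      have hD1 : D = 1 := hinj (by rw [hDeq, map_one])
      obtain ⟨u', w', hu', hw', -, he'⟩ := hD
      rw [hD1] at he'
      rcases vecMulVec_eq_zero.1 (show vecMulVec u' w' = 0 by simpa using he'.symm) with h | h
      exacts [hu' h, hw' h]
    · rw [← eE, ← map_mul, ← map_pow, hr, hsmul]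
  have t3 : q 0 * s 2 = 1 := tau _ 0 2 (by decide) (eE.trans e2) dE' dE1
  obtain ⟨t1, t2⟩ : q 0 * s 1 = 1 ∧ q 1 * s 2 = 1 := by
    rcases hA with ⟨h, h'⟩ | ⟨h, h'⟩
    · exact ⟨tau X 0 1 (by decide) (by rw [eX, h, e0]) dX dX1, tau Y 1 2 (by decide) (by rw [eY, h', e1]) dY dY1⟩
    · exact ⟨tau Y 0 1 (by decide) (by rw [eY, h', e0]) dY dY1, tau X 1 2 (by decide) (by rw [eX, h, e1]) dX dX1⟩
  obtain ⟨p, hp⟩ := dM_conj h2 hs hDeq t1 t2 t3
  have cc : cM p * cM p = (1 : Matrix (Fin 3) (Fin 3) F) := by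
    ext i j; fin_cases i <;> fin_cases j <;>
      simp [cM, Matrix.mul_apply, Fin.sum_univ_three] <;> linear_combination p * h2
  have cf : cM p * fM F = fM F * cM p := by
    ext i j; fin_cases i <;> fin_cases j <;> simp [cM, fM, Matrix.mul_apply, Fin.sum_univ_three]
  have cg : cM p * gM F = gM F * cM p := by
    ext i j; fin_cases i <;> fin_cases j <;> simp [cM, gM, Matrix.mul_apply, Fin.sum_univ_three]
  have cC : cM p * cM c = cM c * cM p := by
    ext i j; fin_cases i <;> fin_cases j <;> simp [cM, Matrix.mul_apply, Fin.sum_univ_three, add_comm]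
  let qm : Matrix (Fin 3) (Fin 3) F →* Matrix (Fin 3) (Fin 3) F :=
    { toFun := fun K => cM p * K * cM p
      map_one' := by rw [mul_one, cc]
      map_mul' := fun K L => by
        calc _ = cM p * K * 1 * L * cM p := by simp only [mul_one, mul_assoc]
          _ = _ := by rw [← cc]; simp only [mul_assoc] }
  have fixes : ∀ K, cM p * K = K * cM p → qm K = K := fun K h => by
    show cM p * K * cM p = K
    rw [h, mul_assoc, cc, mul_one]
  obtain ⟨γ, rfl⟩ := hφ c
  obtain ⟨k5, ⟨r1, k4⟩, r2, k4'⟩ := facts_four γ (fun h => hc0 (by rw [h, map_zero]))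
    (fun h => hc1 (by rw [h, map_one]))
  let Φ := (φ.mapMatrix : Matrix (Fin 3) (Fin 3) FieldFour →+* Matrix (Fin 3) (Fin 3) F)
  have mc : Φ (cM γ) = cM (φ γ) := by ext i j; fin_cases i <;> fin_cases j <;> simp [Φ, cM]
  have md : Φ (dM FieldFour) = dM F := by ext i j; fin_cases i <;> fin_cases j <;> simp [Φ, dM]
  have mf : Φ (fM FieldFour) = fM F := by ext i j; fin_cases i <;> fin_cases j <;> simp [Φ, fM]
  have mg : Φ (gM FieldFour) = gM F := by ext i j; fin_cases i <;> fin_cases j <;> simp [Φ, gM]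
  have ms : ∀ r : FieldFour, Φ (r • 1) = φ r • 1 := fun r => by
    ext i j; simp [Φ, Matrix.one_apply, apply_ite φ]
  have hD' : cj D = qm (dM F) := hp
  have hC' : cj C = qm (cM (φ γ)) := by rw [fixes _ cC, hc]
  refine ⟨hinj ?_, ?_⟩
  · rw [map_one, map_pow, map_mul, hC', hD', ← map_mul, ← map_pow, ← mc, ← md, ← map_mul, ← map_pow, k5,
      map_one, map_one]
  · have hq : ∀ r : F, qm (r • 1) = r • 1 := fun r => by
      show cM p * (r • 1) * cM p = r • 1
      rw [Matrix.mul_smul, mul_one, Matrix.smul_mul, cc]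
    rcases hA with ⟨h, h'⟩ | ⟨h, h'⟩
    · refine ⟨φ r1, hinj ?_⟩
      rw [hsmul, map_pow, map_mul, map_mul, map_mul, hC', hD', eX, eY, h, h', ← fixes _ cf, ← fixes _ cg,
        ← map_mul, ← map_mul, ← map_mul, ← map_pow, ← mc, ← md, ← mf, ← mg, ← map_mul, ← map_mul, ← map_mul,
        ← map_pow, k4, ms, hq]
    · refine ⟨φ r2, hinj ?_⟩
      rw [hsmul, map_pow, map_mul, map_mul, map_mul, hC', hD', eX, eY, h, h', ← fixes _ cf, ← fixes _ cg,
        ← map_mul, ← map_mul, ← map_mul, ← map_pow, ← mc, ← md, ← mf, ← mg, ← map_mul, ← map_mul, ← map_mul,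
        ← map_pow, k4', ms, hq]

open CfsgLib.Classical.UFourTwo in
/-- Five involutions of `PSL(3, 4)`. -/
theorem orders [Fintype F] (hF : Fintype.card F = 4) {f g c d : ProjectiveSpecialLinearGroup (Fin 3) F}
    (hf : orderOf f = 2) (hg : orderOf g = 2) (hc : orderOf c = 2) (hd : orderOf d = 2)
    (hfg : orderOf (f * g) = 4) (hcf : Commute c f) (hcg : Commute c g) (hce : c ≠ (f * g) ^ 2)
    (hdf : orderOf (d * f) = 3) (hdg : orderOf (d * g) = 3) (hde : orderOf (d * (f * g) ^ 2) = 3) :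
    (c * d) ^ 5 = 1 ∧ (c * d * f * g) ^ 4 = 1 := by
  classical
  obtain ⟨-, -, -, -, -, -, h2⟩ := CfsgLib.Classical.PSLThreeFour.exists_coords hF
  let φ : FieldFour ≃+* F := FiniteField.ringEquivOfCardEq (by rw [hF]; rfl)
  obtain ⟨X, rfl, hX⟩ := CfsgLib.Classical.PSLThreeFour.exists_involution_lift hF hf
  obtain ⟨Y, rfl, hY⟩ := CfsgLib.Classical.PSLThreeFour.exists_involution_lift hF hg
  obtain ⟨C, rfl, hC⟩ := CfsgLib.Classical.PSLThreeFour.exists_involution_lift hF hc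
  obtain ⟨D, rfl, hD⟩ := CfsgLib.Classical.PSLThreeFour.exists_involution_lift hF hd
  have scal : ∀ W : Matrix.SpecialLinearGroup (Fin 3) F, (W : ProjectiveSpecialLinearGroup (Fin 3) F) = 1 →
      ∃ r : F, (W : Matrix (Fin 3) (Fin 3) F) = r • 1 := fun W h => by
    rw [QuotientGroup.eq_one_iff, Matrix.SpecialLinearGroup.mem_center_iff] at h
    obtain ⟨r, -, hr⟩ := h
    exact ⟨r, by rw [← hr, scalar_apply, ← smul_one_eq_diagonal]⟩
  have back : ∀ W : Matrix.SpecialLinearGroup (Fin 3) F, ∀ r : F, (W : Matrix (Fin 3) (Fin 3) F) = r • 1 →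
      (W : ProjectiveSpecialLinearGroup (Fin 3) F) = 1 := fun W r h => by
    rw [QuotientGroup.eq_one_iff, Matrix.SpecialLinearGroup.mem_center_iff]
    refine ⟨r, ?_, by rw [h, scalar_apply, ← smul_one_eq_diagonal]⟩
    have hW := W.2
    rw [h, det_smul, det_one, mul_one] at hW
    exact hW
  have tX := tv_of_isTransvection hX
  have tY := tv_of_isTransvection hY
  have tC := tv_of_isTransvection hC
  have tD := tv_of_isTransvection hD
  have exact' : ∀ {U V : Matrix.SpecialLinearGroup (Fin 3) F}, Tv U.1 → Tv V.1 → ∀ n : ℕ,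
      ((U : ProjectiveSpecialLinearGroup (Fin 3) F) * V) ^ n = 1 → (U.1 * V.1) ^ n = 1 := by
    intro U V hU hV n h
    rw [← QuotientGroup.mk_mul, ← QuotientGroup.mk_pow] at h
    obtain ⟨r, hr⟩ := scal _ h
    rw [Matrix.SpecialLinearGroup.coe_pow, Matrix.SpecialLinearGroup.coe_mul] at hr
    exact pow_scalar hU hV hr
  have comm : ∀ {U V : Matrix.SpecialLinearGroup (Fin 3) F}, Tv U.1 → Tv V.1 →
      Commute (U : ProjectiveSpecialLinearGroup (Fin 3) F) V →
      (U : ProjectiveSpecialLinearGroup (Fin 3) F) ^ 2 = 1 →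
      (V : ProjectiveSpecialLinearGroup (Fin 3) F) ^ 2 = 1 → U.1 * V.1 = V.1 * U.1 := by
    intro U V hU hV h hu hv
    have h1 := exact' hU hV 2 (by rw [h.mul_pow, hu, hv, one_mul])
    refine Eq.symm ?_
    calc V.1 * U.1 = (U.1 * V.1) ^ 2 * (V.1 * U.1) := by rw [h1, one_mul]
      _ = U.1 * V.1 * U.1 * (V.1 * V.1) * U.1 := by rw [pow_two]; simp only [mul_assoc]
      _ = U.1 * V.1 * (U.1 * U.1) := by rw [hV.sq h2, mul_one, mul_assoc]
      _ = U.1 * V.1 := by rw [hU.sq h2, mul_one]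
  have pw : ∀ {x : ProjectiveSpecialLinearGroup (Fin 3) F} {k : ℕ}, orderOf x = k → x ^ k = 1 := by
    rintro x k rfl
    exact pow_orderOf_eq_one x
  have sq : ∀ {x : ProjectiveSpecialLinearGroup (Fin 3) F}, orderOf x = 2 → x ^ 2 = 1 :=
    fun {x} h => pw h
  have ne1 : ∀ {U V : Matrix.SpecialLinearGroup (Fin 3) F} {n k : ℕ}, orderOf ((U : ProjectiveSpecialLinearGroup (Fin 3) F) * V) = k →
      0 < n → n < k → (U.1 * V.1) ^ n ≠ 1 := by
    intro U V n k h hn hnk e
    have hb : ((U * V) ^ n : Matrix.SpecialLinearGroup (Fin 3) F) = 1 :=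
      Subtype.ext (by rw [Matrix.SpecialLinearGroup.coe_pow, Matrix.SpecialLinearGroup.coe_mul, e, Matrix.SpecialLinearGroup.coe_one])
    have := orderOf_le_of_pow_eq_one hn
      (show ((U : ProjectiveSpecialLinearGroup (Fin 3) F) * V) ^ n = 1 by
        rw [← QuotientGroup.mk_mul, ← QuotientGroup.mk_pow, hb, QuotientGroup.mk_one])
    omega
  have hE : ∀ K : Matrix.SpecialLinearGroup (Fin 3) F, (K.1 * (X.1 * Y.1) ^ 2) = (K * (X * Y) ^ 2).1 := fun K => by
    rw [Matrix.SpecialLinearGroup.coe_mul, Matrix.SpecialLinearGroup.coe_pow, Matrix.SpecialLinearGroup.coe_mul]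
  obtain ⟨k5, r, k4⟩ := core h2 φ.toRingHom φ.surjective tX tY tC tD
    (exact' tX tY 4 (pw hfg)) (ne1 hfg two_pos (by norm_num))
    (comm tC tX hcf (sq hc) (sq hf)) (comm tC tY hcg (sq hc) (sq hg))
    (fun e => hce (by
      rw [← QuotientGroup.mk_mul, ← QuotientGroup.mk_pow]
      exact congrArg _ (Subtype.ext (by rw [e, Matrix.SpecialLinearGroup.coe_pow, Matrix.SpecialLinearGroup.coe_mul]))))
    (exact' tD tX 3 (pw hdf)) (by simpa using ne1 hdf one_pos (by norm_num))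
    (exact' tD tY 3 (pw hdg)) (by simpa using ne1 hdg one_pos (by norm_num))
    (by
      obtain ⟨r, hr⟩ := scal ((D * (X * Y) ^ 2) ^ 3) (by
        rw [QuotientGroup.mk_pow, QuotientGroup.mk_mul, QuotientGroup.mk_pow, QuotientGroup.mk_mul]
        exact pw hde)
      exact ⟨r, by rw [hE, ← Matrix.SpecialLinearGroup.coe_pow, hr]⟩)
    (fun e => by
      have h1 : D * (X * Y) ^ 2 = 1 := Subtype.ext (by rw [← hE, e, Matrix.SpecialLinearGroup.coe_one])
      have h0 : (D : ProjectiveSpecialLinearGroup (Fin 3) F) * ((X : ProjectiveSpecialLinearGroup (Fin 3) F) * Y) ^ 2 = 1 := by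
        rw [← QuotientGroup.mk_mul, ← QuotientGroup.mk_pow, ← QuotientGroup.mk_mul, h1, QuotientGroup.mk_one]
      rw [h0, orderOf_one] at hde
      omega)
  constructor
  · rw [← QuotientGroup.mk_mul, ← QuotientGroup.mk_pow]
    refine back _ 1 ?_
    rw [Matrix.SpecialLinearGroup.coe_pow, Matrix.SpecialLinearGroup.coe_mul, k5, one_smul]
  · rw [← QuotientGroup.mk_mul, ← QuotientGroup.mk_mul, ← QuotientGroup.mk_mul, ← QuotientGroup.mk_pow]
    refine back _ r ?_
    simpa only [Matrix.SpecialLinearGroup.coe_pow, Matrix.SpecialLinearGroup.coe_mul] using k4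

end CfsgLib.Recog.HeldType.Elation
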