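import Cfsg.Agent.Lib.Classical.SL2TracePSL

/-!
# No commuting involution beside a dihedral group of order eight in `PSL(2, F)`
-/

set_option autoImplicit false

namespace CfsgLib.Recog.HeldType.PSLTwo

open Matrix
open scoped MatrixGroups
open CfsgLib.Classical.Trace

variable {F : Type*} [Field F]

local notation "PSL₂" => Matrix.ProjectiveSpecialLinearGroup (Fin 2) F

theorem lift_sq {x : SL(2, F)} (h1 : (QuotientGroup.mk x : PSL₂) ≠ 1)
    (h2 : (QuotientGroup.mk x : PSL₂) ^ 2 = 1) : x * x = -1 := by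
  rw [← QuotientGroup.mk_pow, mk_eq_one_iff, pow_two] at h2
  rw [Ne, mk_eq_one_iff] at h1
  obtain ⟨e01, e10, e00⟩ := h2
  simp only [Matrix.SpecialLinearGroup.coe_mul, Matrix.mul_apply, Fin.sum_univ_two] at e01 e10 e00
  have hd := det_eq x
  have ht : trc x = 0 := by
    by_contra ht
    apply h1
    refine ⟨?_, ?_, ?_⟩
    · exact (mul_eq_zero.1 (show trc x * (x : Matrix (Fin 2) (Fin 2) F) 0 1 = 0 by
        rw [trc]; linear_combination e01)).resolve_left ht
    · exact (mul_eq_zero.1 (show trc x * (x : Matrix (Fin 2) (Fin 2) F) 1 0 = 0 by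
        rw [trc]; linear_combination e10)).resolve_left ht
    · exact sub_eq_zero.1 ((mul_eq_zero.1 (show trc x *
        ((x : Matrix (Fin 2) (Fin 2) F) 0 0 - (x : Matrix (Fin 2) (Fin 2) F) 1 1) = 0 by
        rw [trc]; linear_combination e00)).resolve_left ht)
  refine Subtype.ext ?_
  rw [Matrix.SpecialLinearGroup.coe_mul, sq_eq, ht]
  simp

theorem mk_eq_of_comm {x y : SL(2, F)} (h2 : (2 : F) ≠ 0) (hx : x * x = -1) (hy : y * y = -1)
    (h : x * y = y * x) : (QuotientGroup.mk x : PSL₂) = QuotientGroup.mk y := by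
  have hsq : (x * y) * (x * y) = 1 := by
    calc (x * y) * (x * y) = x * (y * x) * y := by simp only [mul_assoc]
      _ = (x * x) * (y * y) := by rw [← h]; simp only [mul_assoc]
      _ = 1 := by rw [hx, hy, neg_mul_neg, one_mul]
  have h1 : (QuotientGroup.mk (x * y) : PSL₂) = 1 := by
    by_contra hne
    have := lift_sq hne (by rw [pow_two, ← QuotientGroup.mk_mul, hsq, QuotientGroup.mk_one])
    rw [hsq] at this
    have h00 := congrArg (fun m : SL(2, F) => (m : Matrix (Fin 2) (Fin 2) F) 0 0) this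
    simp at h00
    exact h2 (by linear_combination h00)
  rw [QuotientGroup.mk_mul] at h1
  rw [eq_inv_of_mul_eq_one_left h1]
  refine inv_eq_of_mul_eq_one_right ?_
  rw [← QuotientGroup.mk_mul, hy, mk_neg_eq, QuotientGroup.mk_one]

theorem anti {x y : SL(2, F)} (h : Commute (QuotientGroup.mk x : PSL₂) (QuotientGroup.mk y)) :
    x * y = y * x ∨ x * y = -(y * x) := by
  have h1 : (QuotientGroup.mk ((y * x)⁻¹ * (x * y)) : PSL₂) = 1 := by
    rw [QuotientGroup.mk_mul, QuotientGroup.mk_inv, QuotientGroup.mk_mul, QuotientGroup.mk_mul, h.eq,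
      inv_mul_cancel]
  rw [mk_eq_one_iff] at h1
  obtain ⟨z, hz⟩ : ∃ z, z = (y * x)⁻¹ * (x * y) := ⟨_, rfl⟩
  rw [← hz] at h1
  obtain ⟨e01, e10, e00⟩ := h1
  have hd := det_eq z
  rw [e01, e00] at hd
  have he : x * y = y * x * z := by rw [hz, mul_inv_cancel_left]
  rcases mul_self_eq_one_iff.1 (show (z : Matrix (Fin 2) (Fin 2) F) 1 1 *
      (z : Matrix (Fin 2) (Fin 2) F) 1 1 = 1 by linear_combination hd) with h | h
  · left
    have : z = 1 := by
      refine Subtype.ext ?_
      ext i j
      fin_cases i <;> fin_cases j <;> simp [e01, e10, e00, h]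
    rw [he, this, mul_one]
  · right
    have : z = -1 := by
      refine Subtype.ext ?_
      ext i j
      fin_cases i <;> fin_cases j <;> simp [e01, e10, e00, h]
    rw [he, this, mul_neg, mul_one]

/-- `PSL(2, F)` has no involution centralising a dihedral group of order eight beside its centre. -/
theorem no_config {c f g : PSL₂} (hc : orderOf c = 2) (hf : orderOf f = 2) (hg : orderOf g = 2)
    (hfg : orderOf (f * g) = 4) (hcf : Commute c f) (hcg : Commute c g) (hce : c ≠ (f * g) ^ 2) : False := by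
  have sq1 : ∀ {u : PSL₂}, orderOf u = 2 → u ^ 2 = 1 := fun {u} hu => by
    have h := pow_orderOf_eq_one u
    rwa [hu] at h
  have inv : ∀ {u : PSL₂}, orderOf u = 2 → u⁻¹ = u := fun {u} hu =>
    inv_eq_of_mul_eq_one_right (by rw [← pow_two, sq1 hu])
  have ne1 : ∀ {u : PSL₂}, orderOf u = 2 → u ≠ 1 := fun hu h => by rw [h, orderOf_one] at hu; omega
  have he : orderOf ((f * g) ^ 2) = 2 := by rw [orderOf_pow' _ two_ne_zero, hfg]; norm_num
  by_cases h2 : (2 : F) = 0
  · obtain ⟨x, hx⟩ := QuotientGroup.mk_surjective (f * g)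
    have hne : (QuotientGroup.mk (x * x) : PSL₂) ≠ 1 := by
      rw [QuotientGroup.mk_mul, hx, ← pow_two]
      exact ne1 he
    have h4 : x * x * (x * x) = -1 := lift_sq hne (by rw [QuotientGroup.mk_mul, hx, ← pow_two, sq1 he])
    have ht : trc x = 0 := by
      have hsq := sq_eq x
      have e := congrArg (fun m : SL(2, F) => (m : Matrix (Fin 2) (Fin 2) F)) h4
      simp only [Matrix.SpecialLinearGroup.coe_mul, Matrix.SpecialLinearGroup.coe_neg,
        Matrix.SpecialLinearGroup.coe_one, hsq] at e
      have hd := det_eq x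
      have hn : ¬ IsScalar x := fun h => by
        refine hne ?_
        rw [QuotientGroup.mk_mul, mk_eq_one_iff.2 h, one_mul]
      by_contra ht
      apply hn
      have e01 := congrFun (congrFun e 0) 1
      have e10 := congrFun (congrFun e 1) 0
      have e00 := congrFun (congrFun e 0) 0
      have e11 := congrFun (congrFun e 1) 1
      simp [Matrix.mul_apply, Fin.sum_univ_two, Matrix.smul_apply] at e01 e10 e00 e11
      have ht3 : trc x ^ 3 ≠ 0 := pow_ne_zero _ ht
      refine ⟨?_, ?_, ?_⟩
      · refine (mul_eq_zero.1 (show trc x ^ 3 * (x : Matrix (Fin 2) (Fin 2) F) 0 1 = 0 from ?_)).resolve_left ht3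
        simp only [trc] at e01 ⊢
        grind
      · refine (mul_eq_zero.1 (show trc x ^ 3 * (x : Matrix (Fin 2) (Fin 2) F) 1 0 = 0 from ?_)).resolve_left ht3
        simp only [trc] at e10 ⊢
        grind
      · refine sub_eq_zero.1 ((mul_eq_zero.1 (show trc x ^ 3 *
          ((x : Matrix (Fin 2) (Fin 2) F) 0 0 - (x : Matrix (Fin 2) (Fin 2) F) 1 1) = 0 from ?_)).resolve_left ht3)
        simp only [trc] at e00 e11 ⊢
        grind
    have h1 := mk_sq_eq_one ht
    rw [hx] at h1
    exact ne1 he h1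
  · obtain ⟨x, hx⟩ := QuotientGroup.mk_surjective c
    obtain ⟨y, hy⟩ := QuotientGroup.mk_surjective f
    obtain ⟨w, hw⟩ := QuotientGroup.mk_surjective ((f * g) ^ 2)
    have hx2 : x * x = -1 := lift_sq (hx ▸ ne1 hc) (hx ▸ sq1 hc)
    have hy2 : y * y = -1 := lift_sq (hy ▸ ne1 hf) (hy ▸ sq1 hf)
    have hw2 : w * w = -1 := lift_sq (hw ▸ ne1 he) (hw ▸ sq1 he)
    have hgf : g * f = (f * g)⁻¹ := by rw [_root_.mul_inv_rev, inv hf, inv hg]
    have hce' : Commute c ((f * g) ^ 2) := (hcf.mul_right hcg).pow_right 2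
    have hfe : Commute f ((f * g) ^ 2) := by
      have h : f * (f * g) ^ 2 = ((f * g) ^ 2)⁻¹ * f := by
        have : SemiconjBy f (f * g) (f * g)⁻¹ := by
          rw [SemiconjBy, ← hgf, ← mul_assoc, ← pow_two, sq1 hf, one_mul, mul_assoc, ← pow_two, sq1 hf, mul_one]
        rw [← inv_pow]
        exact this.pow_right 2
      rwa [inv he] at h
    have hne : f ≠ (f * g) ^ 2 := fun h => by
      have h' : Commute f g := by
        have h1 := Commute.pow_self (f * g) 2
        rw [← h] at h1
        exact mul_left_cancel (h1.eq.trans (mul_assoc f g f))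
      have : orderOf (f * g) ∣ 2 := orderOf_dvd_of_pow_eq_one (by rw [h'.mul_pow, sq1 hf, sq1 hg, one_mul])
      rw [hfg] at this
      norm_num at this
    have a1 : x * y = -(y * x) := (anti (by rw [hx, hy]; exact hcf)).resolve_left fun h => by
      have h' := mk_eq_of_comm h2 hx2 hy2 h
      rw [hx, hy] at h'
      subst h'
      have : orderOf (c * g) ∣ 2 := orderOf_dvd_of_pow_eq_one (by rw [hcg.mul_pow, sq1 hc, sq1 hg, one_mul])
      rw [hfg] at this
      norm_num at this
    have a2 : x * w = -(w * x) := (anti (by rw [hx, hw]; exact hce')).resolve_left fun h => by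
      have h' := mk_eq_of_comm h2 hx2 hw2 h
      rw [hx, hw] at h'
      exact hce h'
    have a3 : y * w = -(w * y) := (anti (by rw [hy, hw]; exact hfe)).resolve_left fun h => by
      have h' := mk_eq_of_comm h2 hy2 hw2 h
      rw [hy, hw] at h'
      exact hne h'
    have hyw : (y * w) * (y * w) = -1 := by
      calc (y * w) * (y * w) = y * (w * y) * w := by simp only [mul_assoc]
        _ = -1 := by
          rw [show w * y = -(y * w) by rw [a3, neg_neg]]
          simp only [mul_neg, neg_mul, ← mul_assoc, hy2, hw2, neg_neg, one_mul]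
    have h := mk_eq_of_comm h2 hx2 hyw (by
      rw [← mul_assoc, a1, neg_mul, mul_assoc, a2, mul_neg, neg_neg, ← mul_assoc])
    rw [hx, QuotientGroup.mk_mul, hy, hw] at h
    have hgc : Commute g (f * (f * g) ^ 2) := h ▸ hcg.symm
    have hge : Commute g ((f * g) ^ 2) := by
      have : SemiconjBy g (f * g) (f * g)⁻¹ := by
        rw [SemiconjBy, ← hgf]; group
      have h' := this.pow_right 2
      rw [inv_pow, inv he] at h'
      exact h'
    have hgf' : Commute g f := by simpa using hgc.mul_right hge.inv_right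
    have : orderOf (f * g) ∣ 2 := orderOf_dvd_of_pow_eq_one (by rw [hgf'.symm.mul_pow, sq1 hf, sq1 hg, one_mul])
    rw [hfg] at this
    norm_num at this

end CfsgLib.Recog.HeldType.PSLTwo
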