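import Cfsg.Agent.Lib.CIT.Simple
import Cfsg.Agent.Lib.CIT.AlmostSimple
import Cfsg.Agent.Lib.Recog.HeldType.Elation
import Cfsg.Agent.Lib.Recog.HeldType.PSLTwo

/-!
# Five involutions in a CIT group

In a CIT group let `f`, `g` be involutions, `e = (fg)²` an involution, `d` an involution with `(de)³ = (df)³ =
(dg)³ = 1` and `c ≠ e` an involution commuting with `f` and `g`.  Then they lie in a normal `PSL(3, 4)`, hence
`(cd)⁵ = 1` and `(cdfg)⁴ = 1`.
-/

set_option autoImplicit false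

namespace CfsgLib.Recog.HeldType

open Subgroup
open CfsgLib.CIT (CIT)
open scoped commutatorElement

variable {X : Type*} [Group X]

/-- The relations among four involutions `d, e, f, g`. -/
structure Rel (d e f g : X) : Prop where
  hd : d * d = 1
  he : e * e = 1
  hf : f * f = 1
  hg : g * g = 1
  hefg : e = f * g * (f * g)
  hde : (d * e) ^ 3 = 1
  hdf : (d * f) ^ 3 = 1
  hdg : (d * g) ^ 3 = 1
  he1 : e ≠ 1

theorem inv_of {x : X} (h : x * x = 1) : x⁻¹ = x := inv_eq_of_mul_eq_one_right h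

theorem braid {x y : X} (hx : x * x = 1) (hy : y * y = 1) (h : (x * y) ^ 3 = 1) : x * y * x = y * x * y := by
  have h' : (x * y * x) * (y * x * y) = 1 := by
    rw [← h, pow_succ, pow_two]; simp only [mul_assoc]
  rw [eq_inv_of_mul_eq_one_left h', _root_.mul_inv_rev, _root_.mul_inv_rev, inv_of hx, inv_of hy, mul_assoc]

theorem comm_triv {Q : Type*} [Group Q] {d e f g : Q} (hd : d * d = 1) (hf : f * f = 1) (hg : g * g = 1)
    (hefg : e = f * g * (f * g)) (hde : (d * e) ^ 3 = 1) (hdf : (d * f) ^ 3 = 1) (hdg : (d * g) ^ 3 = 1)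
    (cdf : Commute d f) (cdg : Commute d g) (cfg : Commute f g) : d = 1 ∧ f = 1 ∧ g = 1 := by
  have he : e = 1 := by
    rw [hefg, ← pow_two, cfg.mul_pow, pow_two, pow_two, hf, hg, mul_one]
  have cube : ∀ {x : Q}, x * x = 1 → x ^ 3 = x := fun {x} h => by rw [pow_succ, pow_two, h, one_mul]
  rw [he, mul_one, cube hd] at hde
  rw [cdf.mul_pow, cube hd, cube hf, hde, one_mul] at hdf
  rw [cdg.mul_pow, cube hd, cube hg, hde, one_mul] at hdg
  exact ⟨hde, hdf, hdg⟩

namespace Rel

variable {d e f g : X} (h : Rel d e f g)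
include h

theorem cef : e * f = f * e := by
  have h1 : f * (f * g * (f * g)) = (g * f) * (g * f) * f := by
    calc f * (f * g * (f * g)) = (f * f) * g * f * g := by simp only [mul_assoc]
      _ = g * f * g := by rw [h.hf, one_mul]
      _ = (g * f) * (g * (f * f)) := by rw [h.hf, mul_one]
      _ = _ := by simp only [mul_assoc]
  have h2 : (g * f) * (g * f) = e := by
    rw [← inv_of h.he, h.hefg]
    simp only [_root_.mul_inv_rev, inv_of h.hf, inv_of h.hg]
  rw [← h.hefg, h2] at h1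
  exact h1.symm

theorem swap : Rel d e g f where
  hd := h.hd
  he := h.he
  hf := h.hg
  hg := h.hf
  hefg := by
    rw [← inv_of h.he, h.hefg]
    simp only [_root_.mul_inv_rev, inv_of h.hf, inv_of h.hg]
  hde := h.hde
  hdf := h.hdg
  hdg := h.hdf
  he1 := h.he1

theorem ceg : e * g = g * e := h.swap.cef

theorem gfg : g * f * g = f * e := by
  calc g * f * g = (f * f) * g * f * g := by rw [h.hf, one_mul]
    _ = f * e := by rw [h.hefg]; simp only [mul_assoc]

theorem e_ne_f : e ≠ f := fun he => h.he1 (by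
  have h1 := h.gfg
  rw [he, h.hf] at h1
  have hf1 : f = 1 := by
    calc f = (g * g) * f * (g * g) := by rw [h.hg, one_mul, mul_one]
      _ = g * (g * f * g) * g := by simp only [mul_assoc]
      _ = 1 := by rw [h1, mul_one, h.hg]
  rw [he, hf1])

theorem conj_e : (d * e * f * d * g) * e * (d * e * f * d * g)⁻¹ = f := by
  have bde := braid h.hd h.he h.hde
  have bdf := braid h.hd h.hf h.hdf
  have efe : e * f * e = f := by rw [h.cef, mul_assoc, h.he, mul_one]
  have geg : g * e * g = e := by rw [← h.ceg, mul_assoc, h.hg, mul_one]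
  calc (d * e * f * d * g) * e * (d * e * f * d * g)⁻¹ = d * e * f * d * (g * e * g) * d * f * e * d := by
        simp only [_root_.mul_inv_rev, inv_of h.hd, inv_of h.he, inv_of h.hf, inv_of h.hg, mul_assoc]
    _ = d * e * f * (d * e * d) * f * e * d := by rw [geg]; simp only [mul_assoc]
    _ = d * (e * f * e) * d * (e * f * e) * d := by rw [bde]; simp only [mul_assoc]
    _ = (d * f * d) * f * d := by rw [efe]
    _ = f * d * (f * f) * d := by rw [bdf]; simp only [mul_assoc]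
    _ = f := by rw [h.hf, mul_one, mul_assoc, h.hd, mul_one]

theorem conj_f : (d * e * f * d * g) * f * (d * e * f * d * g)⁻¹ = e * f := by
  have bde := braid h.hd h.he h.hde
  have bdf := braid h.hd h.hf h.hdf
  have efe : e * f * e = f := by rw [h.cef, mul_assoc, h.he, mul_one]
  calc (d * e * f * d * g) * f * (d * e * f * d * g)⁻¹ = d * e * f * d * (g * f * g) * d * f * e * d := by
        simp only [_root_.mul_inv_rev, inv_of h.hd, inv_of h.he, inv_of h.hf, inv_of h.hg, mul_assoc]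
    _ = d * e * f * d * f * (d * d) * e * d * f * e * d := by
        rw [h.gfg, h.hd]; simp only [mul_one, mul_assoc]
    _ = d * e * f * (d * f * d) * (d * e * d) * f * e * d := by simp only [mul_assoc]
    _ = d * e * (f * f) * d * f * e * d * (e * f * e) * d := by rw [bdf, bde]; simp only [mul_assoc]
    _ = d * e * d * (f * e) * d * f * d := by rw [h.hf, mul_one, efe]; simp only [mul_assoc]
    _ = (d * e * d) * e * (f * d * f) * d := by rw [← h.cef]; simp only [mul_assoc]
    _ = e * d * (e * e) * d * f * (d * d) := by rw [bde, ← bdf]; simp only [mul_assoc]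
    _ = e * f := by rw [h.he, h.hd, mul_one, mul_one, mul_assoc e d d, h.hd, mul_one]

variable [Finite X] (hC : CIT X)
include hC

/-- An element of order three inducing `e → f → ef`. -/
theorem exists_cycle : ∃ r ∈ closure ({d, e, f, g} : Set X),
    r ^ 3 = 1 ∧ r * e * r⁻¹ = f ∧ r * f * r⁻¹ = e * f := by
  obtain ⟨r₀, hr₀⟩ : ∃ r, r = d * e * f * d * g := ⟨_, rfl⟩
  have a : r₀ * e * r₀⁻¹ = f := by rw [hr₀]; exact h.conj_e
  have b : r₀ * f * r₀⁻¹ = e * f := by rw [hr₀]; exact h.conj_f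
  have c : r₀ * (e * f) * r₀⁻¹ = e := by
    calc r₀ * (e * f) * r₀⁻¹ = (r₀ * e * r₀⁻¹) * (r₀ * f * r₀⁻¹) := by group
      _ = e := by rw [a, b, h.cef, ← mul_assoc, h.hf, one_mul]
  have ce : Commute (r₀ ^ 3) e := by
    refine mul_inv_eq_iff_eq_mul.1 ?_
    calc r₀ ^ 3 * e * (r₀ ^ 3)⁻¹ = r₀ * (r₀ * (r₀ * e * r₀⁻¹) * r₀⁻¹) * r₀⁻¹ := by
          rw [pow_succ, pow_two]; group
      _ = e := by rw [a, b, c]
  have cf : Commute (r₀ ^ 3) f := by
    refine mul_inv_eq_iff_eq_mul.1 ?_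
    calc r₀ ^ 3 * f * (r₀ ^ 3)⁻¹ = r₀ * (r₀ * (r₀ * f * r₀⁻¹) * r₀⁻¹) * r₀⁻¹ := by
          rw [pow_succ, pow_two]; group
      _ = f := by rw [b, c, a]
  have he2 : orderOf e = 2 := orderOf_eq_prime (by rw [pow_two, h.he]) h.he1
  obtain ⟨j, hj⟩ := CIT.orderOf_two_pow_of_mem (hC e he2) (mem_centralizer_singleton_iff.2 ce.eq)
  obtain ⟨k, hk⟩ : ∃ k, 4 ^ j = 3 * k + 1 := ⟨4 ^ j / 3, by
    have : 4 ^ j % 3 = 1 := by simp [Nat.pow_mod]
    omega⟩
  have hmem : r₀ ∈ closure ({d, e, f, g} : Set X) := by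
    rw [hr₀]
    have : ∀ x ∈ ({d, e, f, g} : Set X), x ∈ closure ({d, e, f, g} : Set X) := fun x hx => subset_closure hx
    exact mul_mem (mul_mem (mul_mem (mul_mem (this d (by simp)) (this e (by simp))) (this f (by simp)))
      (this d (by simp))) (this g (by simp))
  refine ⟨r₀ ^ (4 ^ j), pow_mem hmem _, ?_, ?_, ?_⟩
  · rw [← pow_mul, mul_comm, pow_mul]
    refine orderOf_dvd_iff_pow_eq_one.1 (hj ▸ ?_)
    exact pow_dvd_pow_of_dvd (by norm_num) j
  · rw [hk, pow_succ, pow_mul]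
    calc (r₀ ^ 3) ^ k * r₀ * e * ((r₀ ^ 3) ^ k * r₀)⁻¹ = (r₀ ^ 3) ^ k * (r₀ * e * r₀⁻¹) * ((r₀ ^ 3) ^ k)⁻¹ := by
          group
      _ = f := by rw [a, (cf.pow_left k).eq, mul_inv_cancel_right]
  · rw [hk, pow_succ, pow_mul]
    calc (r₀ ^ 3) ^ k * r₀ * f * ((r₀ ^ 3) ^ k * r₀)⁻¹ = (r₀ ^ 3) ^ k * (r₀ * f * r₀⁻¹) * ((r₀ ^ 3) ^ k)⁻¹ := by
          group
      _ = e * f := by rw [b, ((ce.mul_right cf).pow_left k).eq, mul_inv_cancel_right]

omit [Finite X] hC in
theorem mem_of_solvable {L : Subgroup X} [L.Normal] (hL : Group.IsSolvable (X ⧸ L)) :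
    d ∈ L ∧ e ∈ L ∧ f ∈ L ∧ g ∈ L := by
  have key : ∀ n, (QuotientGroup.mk d : X ⧸ L) ∈ derivedSeries (X ⧸ L) n ∧
      (QuotientGroup.mk f : X ⧸ L) ∈ derivedSeries (X ⧸ L) n ∧
      (QuotientGroup.mk g : X ⧸ L) ∈ derivedSeries (X ⧸ L) n := by
    intro n
    induction n with
    | zero => simp
    | succ n ih =>
      let φ : X →* (X ⧸ L) ⧸ derivedSeries (X ⧸ L) (n + 1) :=
        (QuotientGroup.mk' _).comp (QuotientGroup.mk' L)
      have comm : ∀ {x y : X}, (QuotientGroup.mk x : X ⧸ L) ∈ derivedSeries (X ⧸ L) n →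
          (QuotientGroup.mk y : X ⧸ L) ∈ derivedSeries (X ⧸ L) n → Commute (φ x) (φ y) := by
        intro x y hx hy
        have : ⁅(QuotientGroup.mk x : X ⧸ L), (QuotientGroup.mk y : X ⧸ L)⁆ ∈
            derivedSeries (X ⧸ L) (n + 1) := commutator_mem_commutator hx hy
        rw [← commutatorElement_eq_one_iff_commute]
        rw [← map_commutatorElement]
        exact (QuotientGroup.eq_one_iff _).2 (by simpa [commutatorElement_def] using this)
      obtain ⟨h1, h2, h3⟩ := comm_triv (e := φ e) (by rw [← map_mul, h.hd, map_one])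
        (by rw [← map_mul, h.hf, map_one]) (by rw [← map_mul, h.hg, map_one])
        (by rw [← map_mul, ← map_mul, ← h.hefg]) (by rw [← map_mul, ← map_pow, h.hde, map_one])
        (by rw [← map_mul, ← map_pow, h.hdf, map_one]) (by rw [← map_mul, ← map_pow, h.hdg, map_one])
        (comm ih.1 ih.2.1) (comm ih.1 ih.2.2) (comm ih.2.1 ih.2.2)
      exact ⟨(QuotientGroup.eq_one_iff _).1 h1, (QuotientGroup.eq_one_iff _).1 h2,
        (QuotientGroup.eq_one_iff _).1 h3⟩
  obtain ⟨n, hn⟩ := hL.solvable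
  obtain ⟨h1, h2, h3⟩ := key n
  rw [hn, mem_bot, QuotientGroup.eq_one_iff] at h1 h2 h3
  exact ⟨h1, h.hefg ▸ mul_mem (mul_mem h2 h3) (mul_mem h2 h3), h2, h3⟩

omit [Finite X] hC in
theorem not_solvable : ¬ Group.IsSolvable X := fun hs => by
  haveI := hs
  exact h.he1 (mem_bot.1 (h.mem_of_solvable (L := ⊥)
    (Group.isSolvable_of_surjective (QuotientGroup.mk'_surjective (⊥ : Subgroup X)))).2.1)

end Rel

theorem ring_vanish {R : Type*} [Ring R] (h2 : (2 : R) = 0) {e f g d : R}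
    (he : f * g * (f * g) = e) (hd : (1 + e) * d + d * (1 + e) = 1) (hef : (1 + e) * (1 + f) = 0)
    (heg : (1 + e) * (1 + g) = 0) : (1 : R) = 0 := by
  obtain ⟨N, hN⟩ : ∃ N, N = 1 + f * g := ⟨_, rfl⟩
  have hdbl : ∀ x : R, x + x = 0 := fun x => by rw [← two_mul, h2, zero_mul]
  have hNN : N * N = 1 + e := by
    rw [hN, add_mul, one_mul, mul_add, mul_one, he, add_assoc, ← add_assoc (f * g) (f * g) e, hdbl, zero_add]
  have hN3 : (1 + e) * N = 0 := by
    have : (1 + e) * N = (1 + e) * (1 + f) * g + (1 + e) * (1 + g) := by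
      rw [hN, mul_assoc, ← mul_add]
      congr 1
      calc 1 + f * g = 1 + f * g + (g + g) := by rw [hdbl, add_zero]
        _ = _ := by rw [add_mul, one_mul]; abel
    rw [this, hef, heg, zero_mul, add_zero]
  have h1 : N = N * N * d * N := by
    calc N = ((1 + e) * d + d * (1 + e)) * N := by rw [hd, one_mul]
      _ = _ := by rw [add_mul, mul_assoc d, hN3, mul_zero, add_zero, hNN]
  have hN0 : N = 0 := by
    calc N = N * N * d * N := h1
      _ = N * (N * N * d * N) * d * N := congrArg (fun z => N * z * d * N) h1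
      _ = (N * N) * N * d * N * d * N := by simp only [mul_assoc]
      _ = 0 := by rw [hNN, hN3]; simp
  rw [hN0, zero_mul] at hNN
  rw [← hNN, zero_mul, mul_zero, add_zero] at hd
  exact hd.symm

theorem ring_cycle {R : Type*} [Ring R] (h2 : (2 : R) = 0) {e f r : R} (he : e * e = 1)
    (hre : r * e = f * r) (h1 : 1 + r + r * r = 0) (h3 : 1 + e * r + e * r * (e * r) = 0) :
    (1 + e) * (1 + f) = 0 := by
  have hdbl : ∀ x : R, x + x = 0 := fun x => by rw [← two_mul, h2, zero_mul]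
  have hrr : r * r = 1 + r := by
    calc r * r = (1 + r + r * r) + ((1 + r) + (1 + r)) + (- (1 + r)) := by rw [hdbl]; abel
      _ = -(1 + r) := by rw [h1, hdbl]; abel
      _ = 1 + r := neg_eq_of_add_eq_zero_left (hdbl _)
  have he' : (1 + e) * e = 1 + e := by rw [add_mul, one_mul, he, add_comm]
  have h4 : e * r * (e * r) = e * f * (1 + r) := by
    rw [← hrr, mul_assoc e r, ← mul_assoc r e r, hre]; simp only [mul_assoc]
  have h5 : (1 + e) * (1 + f) * (1 + r) = 0 := by
    calc (1 + e) * (1 + f) * (1 + r)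
        = (1 + e) + (1 + e) * e * r + (1 + e) * e * (f * (1 + r)) := by
          rw [he']; simp only [mul_add, add_mul, mul_one, one_mul, mul_assoc]; abel
      _ = (1 + e) * (1 + e * r + e * f * (1 + r)) := by
          simp only [mul_add, mul_one, mul_assoc]
      _ = 0 := by rw [← h4, h3, mul_zero]
  have h6 : (1 + r) * r = 1 := by
    rw [add_mul, one_mul, hrr, ← add_assoc, add_comm r 1, add_assoc, hdbl, add_zero]
  calc (1 + e) * (1 + f) = (1 + e) * (1 + f) * (1 + r) * r := by rw [mul_assoc _ (1 + r), h6, mul_one]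
    _ = 0 := by rw [h5, zero_mul]

/-- `O₂(X) = 1` when no representation in characteristic two has all elements of order three fixed point free. -/
theorem pCore_eq_bot_of.{u} {Z : Type u} [Group Z] [Finite Z] (hC : CIT Z) (h2X : 2 ∣ Nat.card Z) (hns : ¬ Group.IsSolvable Z)
    (key : ∀ (R : Type u) [Ring R], (2 : R) = 0 → ∀ ρ : Z →* R,
      (∀ y : Z, y ^ 3 = 1 → y ≠ 1 → 1 + ρ y + ρ y * ρ y = 0) → (1 : R) = 0) :
    Cfsg.pCore 2 Z = ⊥ := by
  classical
  by_contra hR
  haveI : Fact (Nat.Prime 2) := ⟨Nat.prime_two⟩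
  haveI hRn := (CfsgLib.Core.isPGroup_pCore 2 Z).isNilpotent
  obtain ⟨V, a, hVn, ha, hV1, hVc, hVexp⟩ := CfsgLib.Recog.Spectrum.exists_elementary_of_solvable
    (Cfsg.pCore 2 Z) hR inferInstance
  haveI := Fact.mk ha
  haveI := hVn
  have hVp : IsPGroup a V := fun v => ⟨1, by rw [pow_one]; exact hVexp v⟩
  obtain rfl : a = 2 := by
    by_contra ha2
    obtain ⟨k, hk⟩ := IsPGroup.iff_card.1 hVp
    exact hV1 (CIT.odd_normal_eq_bot hC h2X hns (hk ▸ (ha.odd_of_ne_two ha2).pow))
  letI : CommGroup V := { (inferInstance : Group V) with mul_comm := fun x y => hVc x y }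
  let ρ : Z →* AddMonoid.End (Additive V) :=
    { toFun := fun x => MonoidHom.toAdditive ((MulAut.conjNormal x : V ≃* V) : V →* V)
      map_one' := by
        refine AddMonoidHom.ext fun v => ?_
        rw [map_one]
        rfl
      map_mul' := fun x y => by
        refine AddMonoidHom.ext fun v => ?_
        rw [map_mul]
        rfl }
  have h2 : (2 : AddMonoid.End (Additive V)) = 0 := by
    rw [← one_add_one_eq_two]
    refine AddMonoidHom.ext fun v => ?_
    have := hVexp (Additive.toMul v)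
    rw [pow_two] at this
    exact congrArg Additive.ofMul this
  have hfix : ∀ y : Z, y ^ 3 = 1 → y ≠ 1 → 1 + ρ y + ρ y * ρ y = 0 := by
    intro y hy hy1
    have hyo : Odd (orderOf y) := (by norm_num : Odd 3).of_dvd_nat (orderOf_dvd_of_pow_eq_one hy)
    refine AddMonoidHom.ext fun v => ?_
    obtain ⟨u, hu⟩ : ∃ u : V, Additive.ofMul u = v := ⟨Additive.toMul v, rfl⟩
    obtain ⟨w, hw⟩ : ∃ w : V, w = u * MulAut.conjNormal y u * MulAut.conjNormal y (MulAut.conjNormal y u) :=
      ⟨_, rfl⟩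
    have hfy : MulAut.conjNormal y w = w := by
      have h3 : MulAut.conjNormal y (MulAut.conjNormal y (MulAut.conjNormal y u)) = u := by
        rw [← MulAut.mul_apply, ← MulAut.mul_apply, ← map_mul, ← map_mul, show y * y * y = 1 by
          rw [← hy, pow_succ, pow_two], map_one, MulAut.one_apply]
      rw [hw, map_mul, map_mul, h3]
      exact mul_right_comm _ _ _ |>.trans (by rw [mul_comm (MulAut.conjNormal y u) u])
    have hw1 : (w : Z) = 1 := hC.eq_one_of_mem hyo hy1 hVp w.2 (by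
      have := congrArg Subtype.val hfy
      simp only [MulAut.conjNormal_apply] at this
      exact mul_inv_eq_iff_eq_mul.1 this)
    subst hu
    exact congrArg Additive.ofMul (show u * MulAut.conjNormal y u *
      MulAut.conjNormal y (MulAut.conjNormal y u) = 1 from hw ▸ Subtype.ext hw1)
  have h0 := key _ h2 ρ hfix
  refine hV1 ((eq_bot_iff_forall V).2 fun v hv => ?_)
  have := congrArg (fun φ : AddMonoid.End (Additive V) => φ (Additive.ofMul ⟨v, hv⟩)) h0
  exact congrArg (fun w : V => (w : Z)) (congrArg Additive.toMul this)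

section Fpf

variable [Finite X] (hC : CIT X) {d e f g : X} (h : Rel d e f g)
include hC h

theorem pCore_two_eq_bot : Cfsg.pCore 2 X = ⊥ := by
  have he2 : orderOf e = 2 := orderOf_eq_prime (by rw [pow_two, h.he]) h.he1
  refine pCore_eq_bot_of hC (he2 ▸ orderOf_dvd_natCard e) h.not_solvable fun R _ h2 ρ hfix => ?_
  have hcyc : ∀ {f' g' : X}, Rel d e f' g' → (1 + ρ e) * (1 + ρ f') = 0 := by
    intro f' g' h'
    obtain ⟨r, -, hr3, hre, hrf⟩ := h'.exists_cycle hC
    refine ring_cycle h2 (by rw [← map_mul, h.he, map_one]) (r := ρ r) (by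
      rw [← map_mul, ← map_mul, mul_inv_eq_iff_eq_mul.1 hre]) (hfix r hr3 fun h1 => ?_) ?_
    · rw [h1] at hre; exact h'.e_ne_f (by simpa using hre)
    · rw [← map_mul]
      refine hfix _ ?_ fun h1 => ?_
      · calc (e * r) ^ 3 = e * (r * e * r⁻¹) * (r * (r * e * r⁻¹) * r⁻¹) * r ^ 3 := by rw [pow_succ, pow_two, pow_succ r, pow_two]; group
          _ = 1 := by rw [hre, hrf, hr3, mul_one, ← mul_assoc, h'.cef, mul_assoc f', h.he, mul_one, h'.hf]
      · have : r = e := by rw [eq_inv_of_mul_eq_one_right h1, inv_of h.he]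
        rw [this, mul_inv_cancel_right] at hre
        exact h'.e_ne_f hre
  have hd : (1 + ρ e) * ρ d + ρ d * (1 + ρ e) = 1 := by
    have hne : d * e ≠ 1 := fun h1 => by
      have hde : d = e := by rw [eq_inv_of_mul_eq_one_left h1, inv_of h.he]
      have hfe : Commute d f := by rw [hde]; exact h.cef
      have hge : Commute d g := by rw [hde]; exact h.ceg
      have h3 := h.hdf
      have h4 := h.hdg
      rw [hfe.mul_pow, pow_succ d 2, pow_two, h.hd, one_mul, pow_succ f 2, pow_two, h.hf, one_mul] at h3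
      have : d = f := by rw [eq_inv_of_mul_eq_one_left h3, inv_of h.hf]
      exact h.e_ne_f (hde.symm.trans this)
    have h3 := hfix (d * e) h.hde hne
    have hed : d * e * (d * e) = e * d := by
      have h1 := h.hde
      rw [pow_succ, pow_two] at h1
      rw [eq_inv_of_mul_eq_one_left h1, _root_.mul_inv_rev, inv_of h.hd, inv_of h.he]
    rw [← map_mul, hed, map_mul, map_mul] at h3
    have hdbl : ∀ x : R, x + x = 0 := fun x => by rw [← two_mul, h2, zero_mul]
    calc (1 + ρ e) * ρ d + ρ d * (1 + ρ e) = (1 + ρ d * ρ e + ρ e * ρ d) + (ρ d + ρ d) - 1 := by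
          rw [add_mul, mul_add, one_mul, mul_one]; abel
      _ = 1 := by
        rw [h3, hdbl, add_zero, zero_sub]
        exact neg_eq_of_add_eq_zero_left (hdbl 1)
  exact ring_vanish h2 (f := ρ f) (g := ρ g) (by rw [← map_mul, ← map_mul, ← h.hefg]) hd (hcyc h)
    (hcyc h.swap)

end Fpf

/-- A simple normal `PSL(3, 4)` containing `c`. -/
theorem exists_psl {X : Type*} [Group X] [Finite X] (hC : CIT X) (hns : ¬ Group.IsSolvable X)
    (hcore : Cfsg.pCore 2 X = ⊥) {c e f g r : X} (he : orderOf e = 2) (hf : f * f = 1) (hg : g * g = 1)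
    (hefg : e = f * g * (f * g)) (cef : e * f = f * e) (hr3 : r ^ 3 = 1) (hre : r * e * r⁻¹ = f)
    (hrf : r * f * r⁻¹ = e * f)
    (hmem : ∀ L : Subgroup X, ∀ [L.Normal], Group.IsSolvable (X ⧸ L) → e ∈ L ∧ f ∈ L ∧ g ∈ L ∧ r ∈ L)
    (hc : orderOf c = 2) (hcf : Commute c f) (hcg : Commute c g) (hce : c ≠ e) :
    ∃ L : Subgroup X, ∃ _ : L.Normal, IsSimpleGroup L ∧ CIT.IsPSLThreeFour L ∧
      centralizer (L : Set X) = ⊥ ∧ Group.IsSolvable (X ⧸ L) ∧ c ∈ L := by
  classical
  haveI : Fact (Nat.Prime 2) := ⟨Nat.prime_two⟩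
  have h2X : 2 ∣ Nat.card X := he ▸ orderOf_dvd_natCard e
  have he1 : e ≠ 1 := fun h => by rw [h, orderOf_one] at he; omega
  have hne : e ≠ f := fun h1 => he1 (by
    have hgfg : g * f * g = f * e := by
      calc g * f * g = (f * f) * g * f * g := by rw [hf, one_mul]
        _ = f * e := by rw [hefg]; simp only [mul_assoc]
    rw [h1, hf] at hgfg
    have hf1 : f = 1 := by
      calc f = (g * g) * f * (g * g) := by rw [hg, one_mul, mul_one]
        _ = g * (g * f * g) * g := by simp only [mul_assoc]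
        _ = 1 := by rw [hgfg, mul_one, hg]
    rw [h1, hf1])
  obtain ⟨L, hLn, hLs, hna, hL2, hLc⟩ :=
    CIT.exists_simple_normal hC h2X hns hcore
  haveI := hLn
  haveI := hLs
  obtain ⟨u, -, hu, hdec⟩ := CIT.exists_split hC hna hL2
  haveI : Group.IsNilpotent (centralizer ({u} : Set X)) := (hC u hu).isNilpotent
  have hsol : Group.IsSolvable (X ⧸ L) := by
    refine Group.isSolvable_of_surjective
      (f := (QuotientGroup.mk' L).comp (centralizer ({u} : Set X)).subtype) fun x => ?_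
    obtain ⟨y, rfl⟩ := QuotientGroup.mk_surjective x
    obtain ⟨l, k, hl, hk, rfl⟩ := hdec y
    refine ⟨⟨k, mem_centralizer_singleton_iff.2 hk⟩, ?_⟩
    show ((k : X) : X ⧸ L) = ((l * k : X) : X ⧸ L)
    rw [QuotientGroup.mk_mul, (QuotientGroup.eq_one_iff l).2 hl, one_mul]
  obtain ⟨heL, hfL, hgL, hrL⟩ := hmem L hsol
  have hce' : Commute c e := by rw [hefg]; exact (hcf.mul_right hcg).mul_right (hcf.mul_right hcg)
  -- `c` lies in `L`
  have hcL : c ∈ L := by
    have hr1 : r ≠ 1 := fun h1 => by rw [h1] at hre; exact hne (by simpa using hre)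
    have hro : Odd (orderOf r) := (by norm_num : Odd 3).of_dvd_nat (orderOf_dvd_of_pow_eq_one hr3)
    obtain ⟨M, hM⟩ : ∃ M, M = L ⊓ (centralizer ({e} : Set X) ⊓ centralizer ({f} : Set X)) := ⟨_, rfl⟩
    have hMe : M ≤ centralizer ({e} : Set X) := hM ▸ inf_le_right.trans inf_le_left
    have hr2 : r * (e * f) * r⁻¹ = e := by
      calc r * (e * f) * r⁻¹ = (r * e * r⁻¹) * (r * f * r⁻¹) := by group
        _ = e := by rw [hre, hrf, cef, ← mul_assoc, hf, one_mul]
    have hconj : ∀ x : X, Commute x e → Commute x f →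
        Commute (r * x * r⁻¹) e ∧ Commute (r * x * r⁻¹) f := fun x h1 h2 => by
      refine ⟨?_, ?_⟩
      · have := (h1.mul_right h2).map (MulAut.conj r).toMonoidHom
        simpa [hr2] using this
      · have := h1.map (MulAut.conj r).toMonoidHom
        simpa [hre] using this
    have hmem : ∀ m : M, r * (m : X)⁻¹ * r⁻¹ * m ∈ M := by
      rintro ⟨m, hm⟩
      subst hM
      obtain ⟨hmL, hme, hmf⟩ := hm
      replace hme := mem_centralizer_singleton_iff.1 hme
      replace hmf := mem_centralizer_singleton_iff.1 hmf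
      replace hmL : m ∈ L := hmL
      obtain ⟨p, q⟩ := hconj m⁻¹ (Commute.inv_left hme) (Commute.inv_left hmf)
      refine Subgroup.mem_inf.2 ⟨mul_mem (mul_mem (mul_mem hrL (inv_mem hmL)) (inv_mem hrL)) hmL,
        Subgroup.mem_inf.2 ⟨mem_centralizer_singleton_iff.2 (p.mul_left hme).eq,
          mem_centralizer_singleton_iff.2 (q.mul_left hmf).eq⟩⟩
    let ψ : M → M := fun m => ⟨_, hmem m⟩
    have hinj : Function.Injective ψ := fun m n hmn => by
      have h1 : r * (m : X)⁻¹ * r⁻¹ * m = r * (n : X)⁻¹ * r⁻¹ * n := congrArg Subtype.val hmn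
      have h2 : Commute r ((m : X) * (n : X)⁻¹) := by
        refine mul_inv_eq_iff_eq_mul.1 ?_
        calc r * ((m : X) * (n : X)⁻¹) * r⁻¹
            = (r * (m : X) * r⁻¹) * (r * (n : X)⁻¹ * r⁻¹ * n) * (n : X)⁻¹ := by group
          _ = (m : X) * (n : X)⁻¹ := by rw [← h1]; group
      exact Subtype.ext (mul_inv_eq_one.1 (hC.eq_one_of_mem hro hr1 (hC e he)
        (mul_mem (hMe m.2) (inv_mem (hMe n.2))) h2.eq))
    have hw : r * c * r⁻¹ * c⁻¹ ∈ M := by
      obtain ⟨p, q⟩ := hconj c hce' hcf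
      rw [hM]
      refine ⟨?_, mem_centralizer_singleton_iff.2 (p.mul_left hce'.inv_left).eq,
        mem_centralizer_singleton_iff.2 (q.mul_left hcf.inv_left).eq⟩
      rw [mul_assoc r c, mul_assoc r]
      exact mul_mem hrL (hLn.conj_mem _ (inv_mem hrL) c)
    obtain ⟨m, hm⟩ := Finite.injective_iff_surjective.1 hinj ⟨_, hw⟩
    have hm' : r * (m : X)⁻¹ * r⁻¹ * m = r * c * r⁻¹ * c⁻¹ := congrArg Subtype.val hm
    have hfx : Commute r ((m : X) * c) := by
      refine mul_inv_eq_iff_eq_mul.1 ?_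
      calc r * ((m : X) * c) * r⁻¹ = (r * (m : X) * r⁻¹) * (r * c * r⁻¹ * c⁻¹) * c := by group
        _ = (m : X) * c := by rw [← hm']; group
    have h1 := hC.eq_one_of_mem hro hr1 (hC e he)
      (mul_mem (hMe m.2) (mem_centralizer_singleton_iff.2 hce'.eq)) hfx.eq
    rw [eq_inv_of_mul_eq_one_right h1]
    exact inv_mem ((hM.le m.2).1)
  refine ⟨L, hLn, hLs, ?_, hLc, hsol, hcL⟩
  rcases CIT.simple_cit hna (hC.subgroup L) hL2 with ⟨F, _, _, -, ⟨φ⟩⟩ | h | hSz
  · have hf1 : f ≠ 1 := fun h1 => he1 (by rw [hefg, h1, one_mul, hg])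
    have hg1 : g ≠ 1 := fun h1 => he1 (by rw [hefg, h1, mul_one, hf])
    have ord : ∀ (x : X) (hx : x ∈ L), x * x = 1 → x ≠ 1 → orderOf (φ ⟨x, hx⟩) = 2 := fun x hx h1 h2 => by
      rw [MulEquiv.orderOf_eq, Subgroup.orderOf_mk]
      exact orderOf_eq_prime (by rw [pow_two, h1]) h2
    refine (PSLTwo.no_config (c := φ ⟨c, hcL⟩) (f := φ ⟨f, hfL⟩) (g := φ ⟨g, hgL⟩)
      (by rw [MulEquiv.orderOf_eq, Subgroup.orderOf_mk, hc]) (ord f hfL hf hf1) (ord g hgL hg hg1) ?_
      ((show Commute (⟨c, hcL⟩ : L) ⟨f, hfL⟩ from Subtype.ext hcf.eq).map φ)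
      ((show Commute (⟨c, hcL⟩ : L) ⟨g, hgL⟩ from Subtype.ext hcg.eq).map φ) ?_).elim
    · rw [← map_mul, MulEquiv.orderOf_eq, ← orderOf_coe, show 4 = 2 ^ (1 + 1) by norm_num]
      refine orderOf_eq_prime_pow ?_ ?_
      · rw [pow_one, pow_two]
        show ¬ f * g * (f * g) = 1
        rwa [← hefg]
      · rw [show 2 ^ (1 + 1) = 2 * 2 by norm_num, pow_mul, pow_two, pow_two]
        show f * g * (f * g) * (f * g * (f * g)) = 1
        rw [← hefg, ← pow_two, ← he, pow_orderOf_eq_one]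
    · rw [← map_mul, ← map_pow]
      refine φ.injective.ne fun h1 => hce ?_
      rw [hefg, ← pow_two]
      exact congrArg Subtype.val h1
  · exact h
  · obtain ⟨-, m, hm, hcard⟩ := hSz
    exfalso
    have h3 : 3 ∣ Nat.card L := by
      have hr' : orderOf r = 3 := orderOf_eq_prime hr3 fun h1 => by rw [h1] at hre; exact hne (by simpa using hre)
      rw [← hr', ← Subgroup.orderOf_mk r hrL]
      exact orderOf_dvd_natCard _
    have hq : 2 ^ (2 * m + 1) % 3 = 2 := by simp [pow_succ, pow_mul, Nat.mul_mod, Nat.pow_mod]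
    have hq1 : 1 ≤ 2 ^ (2 * m + 1) := Nat.one_le_two_pow
    rw [hcard, Nat.prime_three.dvd_mul, Nat.prime_three.dvd_mul, Nat.dvd_iff_mod_eq_zero,
      Nat.dvd_iff_mod_eq_zero, Nat.dvd_iff_mod_eq_zero, Nat.add_mod, Nat.pow_mod, hq] at h3
    omega


/-- The two relations. -/
theorem five_involutions {X : Type*} [Group X] [Finite X] (hC : CIT X) {c d e f g : X}
    (h : Rel d e f g) (hd1 : d ≠ 1) (hc : orderOf c = 2) (hcf : Commute c f) (hcg : Commute c g) (hce : c ≠ e) :
    (c * d) ^ 5 = 1 ∧ (c * d * f * g) ^ 4 = 1 := by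
  classical
  have he2 : orderOf e = 2 := orderOf_eq_prime (by rw [pow_two, h.he]) h.he1
  obtain ⟨r, hr, hr3, hre, hrf⟩ := h.exists_cycle hC
  obtain ⟨L, hLn, hLs, ⟨F, _, _, hF, ⟨φ⟩⟩, -, hsol, hcL⟩ :=
    exists_psl hC h.not_solvable (pCore_two_eq_bot hC h) he2 h.hf h.hg h.hefg h.cef hr3 hre hrf
      (fun L _ hL => by
        obtain ⟨hdL, heL, hfL, hgL⟩ := h.mem_of_solvable hL
        exact ⟨heL, hfL, hgL, closure_le L |>.2 (by rintro x (rfl | rfl | rfl | rfl) <;> assumption) hr⟩)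
      hc hcf hcg hce
  obtain ⟨hdL, heL, hfL, hgL⟩ := h.mem_of_solvable hsol
  obtain ⟨c', rfl⟩ : ∃ c' : L, (c' : X) = c := ⟨⟨c, hcL⟩, rfl⟩
  obtain ⟨d', rfl⟩ : ∃ d' : L, (d' : X) = d := ⟨⟨d, hdL⟩, rfl⟩
  obtain ⟨f', rfl⟩ : ∃ f' : L, (f' : X) = f := ⟨⟨f, hfL⟩, rfl⟩
  obtain ⟨g', rfl⟩ : ∃ g' : L, (g' : X) = g := ⟨⟨g, hgL⟩, rfl⟩
  have one_ne : ∀ {x : X}, x * x = 1 → x ≠ 1 → orderOf x = 2 := fun h1 h2 =>
    orderOf_eq_prime (by rw [pow_two, h1]) h2
  have hd2 : orderOf d' = 2 := by rw [← orderOf_coe]; exact one_ne h.hd hd1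
  have hfg : orderOf (f' * g') = 4 := by
    rw [← orderOf_coe, coe_mul, show 4 = 2 ^ (1 + 1) by norm_num]
    refine orderOf_eq_prime_pow ?_ ?_
    · rw [pow_one, pow_two, ← h.hefg]; exact h.he1
    · rw [show 2 ^ (1 + 1) = 2 * 2 by norm_num, pow_mul, pow_two, pow_two, ← h.hefg, h.he]
  have hf1 : (f' : X) ≠ 1 := fun h1 => by
    apply h.he1
    rw [h.hefg, h1, one_mul, h.hg]
  have hg1 : (g' : X) ≠ 1 := fun h1 => by
    apply h.he1
    rw [h.hefg, h1, mul_one, h.hf]
  have hf2 : orderOf f' = 2 := by rw [← orderOf_coe]; exact one_ne h.hf hf1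
  have hg2 : orderOf g' = 2 := by rw [← orderOf_coe]; exact one_ne h.hg hg1
  have hc2 : orderOf c' = 2 := by rw [← orderOf_coe]; exact hc
  have hcf' : Commute c' f' := Subtype.ext hcf.eq
  have hcg' : Commute c' g' := Subtype.ext hcg.eq
  have he' : ((f' * g') ^ 2 : L) = ⟨e, heL⟩ := Subtype.ext (by simp [pow_two, ← h.hefg])
  have hce2 : c' ≠ (f' * g') ^ 2 := fun h1 => hce (by rw [h1, he'])
  have three : ∀ {x y : L}, ((x : X) * y) ^ 3 = 1 → x ≠ y → (y : X) * y = 1 → orderOf (x * y) = 3 :=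
    fun {x y} h1 h2 h3 => orderOf_eq_prime (Subtype.ext h1) fun h4 => h2 (by
      rw [eq_inv_of_mul_eq_one_left h4]
      exact inv_eq_of_mul_eq_one_right (Subtype.ext h3))
  have hdf : orderOf (d' * f') = 3 := three h.hdf (fun h1 => by
    subst h1
    have hde : Commute (d' : X) e := h.cef.symm
    have h3 := h.hde
    rw [hde.mul_pow, pow_succ (d' : X) 2, pow_two, h.hd, one_mul, pow_succ e 2, pow_two, h.he, one_mul] at h3
    exact h.e_ne_f (by rw [eq_inv_of_mul_eq_one_left h3, inv_of h.he])) h.hf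
  have hdg : orderOf (d' * g') = 3 := three h.hdg (fun h1 => by
    subst h1
    have hde : Commute (d' : X) e := h.ceg.symm
    have h3 := h.hde
    rw [hde.mul_pow, pow_succ (d' : X) 2, pow_two, h.hd, one_mul, pow_succ e 2, pow_two, h.he, one_mul] at h3
    exact h.swap.e_ne_f (by rw [eq_inv_of_mul_eq_one_left h3, inv_of h.he])) h.hg
  obtain ⟨h1, h2⟩ := Elation.orders hF (f := φ f') (g := φ g') (c := φ c') (d := φ d')
    (by rw [MulEquiv.orderOf_eq, hf2]) (by rw [MulEquiv.orderOf_eq, hg2])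
    (by rw [MulEquiv.orderOf_eq, hc2]) (by rw [MulEquiv.orderOf_eq, hd2])
    (by rw [← map_mul, MulEquiv.orderOf_eq, hfg]) (hcf'.map φ) (hcg'.map φ)
    (by rw [← map_mul, ← map_pow]; exact φ.injective.ne hce2)
    (by rw [← map_mul, MulEquiv.orderOf_eq, hdf]) (by rw [← map_mul, MulEquiv.orderOf_eq, hdg])
    (by
      rw [← map_mul, ← map_pow, ← map_mul, MulEquiv.orderOf_eq, he']
      exact three (y := ⟨e, heL⟩) h.hde (fun h1 => by
        have h1' : (d' : X) = e := congrArg Subtype.val h1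
        have hde : Commute (d' : X) f' := by rw [h1']; exact h.cef
        have h3 := h.hdf
        rw [hde.mul_pow, pow_succ (d' : X) 2, pow_two, h.hd, one_mul, pow_succ (f' : X) 2, pow_two, h.hf,
          one_mul] at h3
        exact h.e_ne_f (by rw [← h1', eq_inv_of_mul_eq_one_left h3, inv_of h.hf])) h.he)
  refine ⟨?_, ?_⟩
  · have : (c' * d') ^ 5 = 1 := φ.injective (by simpa using h1)
    exact congrArg Subtype.val this
  · have : (c' * d' * f' * g') ^ 4 = 1 := φ.injective (by simpa using h2)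
    exact congrArg Subtype.val this

end CfsgLib.Recog.HeldType
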