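import Cfsg.Agent.Lib.Recog.HeldType.Core

/-!
# The two relations in the centraliser of a four-group

`V` is elementary abelian, every involution coset of `V` in `C(V)` consists of involutions and meets one element
with 2-group centraliser in `C(V)`.  Then `C(V)/V` is a CIT group, and the relations of `five_involutions` lift.
-/

set_option autoImplicit false

namespace CfsgLib.Recog.HeldType

open Subgroup
open CfsgLib.CIT (CIT)

variable {G : Type*} [Group G] {V : Subgroup G}

theorem le_centralizer_of_sq (hV : ∀ z ∈ V, z * z = 1) : V ≤ centralizer (V : Set G) := fun x hx =>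
  mem_centralizer_iff.2 fun y hy => by
    have h := hV _ (mul_mem hy hx)
    rw [eq_inv_of_mul_eq_one_left h, _root_.mul_inv_rev, inv_of (hV x hx), inv_of (hV y hy)]

/-- `V` inside its centraliser. -/
abbrev inner (V : Subgroup G) : Subgroup (centralizer (V : Set G)) := V.subgroupOf (centralizer (V : Set G))

instance inner_normal : (inner V).Normal := ⟨fun z hz y => by
  rw [mem_subgroupOf] at hz ⊢
  have h : (z : G) * y = y * z := mem_centralizer_iff.1 y.2 z hz
  simp only [Subgroup.coe_mul, Subgroup.coe_inv]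
  rw [← h, mul_inv_cancel_right]
  exact hz⟩

theorem cit_quotient (hV : ∀ z ∈ V, z * z = 1)
    (hcit : ∀ x ∈ centralizer (V : Set G), x ∉ V → x * x ∈ V →
      ∃ z ∈ V, IsPGroup 2 (centralizer (V : Set G) ⊓ centralizer ({x * z} : Set G) : Subgroup G)) :
    CIT (centralizer (V : Set G) ⧸ inner V) := by
  intro t ht
  obtain ⟨x, rfl⟩ := QuotientGroup.mk_surjective t
  have hx1 : (x : G) ∉ V := fun h => by
    rw [(QuotientGroup.eq_one_iff x).2 (mem_subgroupOf.2 h), orderOf_one] at ht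
    omega
  have hx2 : (x : G) * x ∈ V := by
    have h := pow_orderOf_eq_one (QuotientGroup.mk x : centralizer (V : Set G) ⧸ inner V)
    rw [ht, pow_two, ← QuotientGroup.mk_mul, QuotientGroup.eq_one_iff, mem_subgroupOf] at h
    exact h
  obtain ⟨z, hz, hp⟩ := hcit x x.2 hx1 hx2
  rintro ⟨y, hy⟩
  obtain ⟨y, rfl⟩ := QuotientGroup.mk_surjective y
  rw [mem_centralizer_singleton_iff, ← QuotientGroup.mk_mul, ← QuotientGroup.mk_mul, QuotientGroup.eq,
    mem_subgroupOf] at hy
  simp only [Subgroup.coe_mul, Subgroup.coe_inv] at hy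
  obtain ⟨v, hv, hvy⟩ : ∃ v ∈ V, (x : G) * y = y * x * v := ⟨_, hy, (mul_inv_cancel_left _ _).symm⟩
  have cx : (x : G) * v = v * x := (mem_centralizer_iff.1 x.2 v hv).symm
  have cy : (y : G) * v = v * y := (mem_centralizer_iff.1 y.2 v hv).symm
  have cz : (z : G) * y = y * z := mem_centralizer_iff.1 y.2 z hz
  have hyy : ((y : G) * y) * (x * z) = x * z * (y * y) := by
    calc ((y : G) * y) * (x * z) = y * y * x * z := by simp only [mul_assoc]
      _ = y * y * x * (v * v) * z := by rw [hV v hv, mul_one]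
      _ = y * (y * x * v) * v * z := by simp only [mul_assoc]
      _ = y * x * (y * v) * z := by rw [← hvy]; simp only [mul_assoc]
      _ = (y * x * v) * y * z := by rw [cy]; simp only [mul_assoc]
      _ = x * (y * y * z) := by rw [← hvy]; simp only [mul_assoc]
      _ = _ := by rw [mul_assoc (y : G), ← cz, ← mul_assoc (y : G), ← cz]; simp only [mul_assoc]
  obtain ⟨k, hk⟩ := hp ⟨(y : G) * y, mem_inf.2 ⟨mul_mem y.2 y.2, mem_centralizer_singleton_iff.2 hyy⟩⟩
  refine ⟨k + 1, Subtype.ext ?_⟩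
  have hk' : ((y : G) * y) ^ 2 ^ k = 1 := congrArg Subtype.val hk
  rw [← pow_two, ← pow_mul, ← pow_succ'] at hk'
  have : y ^ 2 ^ (k + 1) = 1 := Subtype.ext hk'
  show (QuotientGroup.mk y : centralizer (V : Set G) ⧸ inner V) ^ 2 ^ (k + 1) = 1
  rw [← QuotientGroup.mk_pow, this, QuotientGroup.mk_one]

/-- The relations `(cd)⁵ = a` and `(cdfg)⁴ = 1`. -/
theorem lifted_relations [Finite G] (P : G → Prop) (hP : ∀ u x, P x → P (u * x * u⁻¹))
    (hV : ∀ z ∈ V, z * z = 1)
    (hsq : ∀ x ∈ centralizer (V : Set G), x ∉ V → x * x ∈ V → x * x = 1)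
    (hcit : ∀ x ∈ centralizer (V : Set G), x ∉ V → x * x ∈ V →
      ∃ z ∈ V, IsPGroup 2 (centralizer (V : Set G) ⊓ centralizer ({x * z} : Set G) : Subgroup G))
    {a c d e f g : G} (h : Rel d e f g) (ha : a ∈ V) (cC : c ∈ centralizer (V : Set G))
    (dC : d ∈ centralizer (V : Set G)) (fC : f ∈ centralizer (V : Set G)) (gC : g ∈ centralizer (V : Set G))
    (heV : e ∉ V) (hc2 : c * c = 1) (hcV : c ∉ V) (hceV : c * e ∉ V) (hcf : Commute c f) (hcg : Commute c g)
    (hcu : ∀ z ∈ V, P (c * z) → z = 1) (hPd : P (d * a)) :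
    (c * d) ^ 5 = a ∧ (c * d * f * g) ^ 4 = 1 := by
  classical
  have eC : e ∈ centralizer (V : Set G) := h.hefg ▸ mul_mem (mul_mem fC gC) (mul_mem fC gC)
  let π := QuotientGroup.mk' (inner V)
  obtain ⟨C, hC⟩ : ∃ x : centralizer (V : Set G), (x : G) = c := ⟨⟨c, cC⟩, rfl⟩
  obtain ⟨D, hD⟩ : ∃ x : centralizer (V : Set G), (x : G) = d := ⟨⟨d, dC⟩, rfl⟩
  obtain ⟨E, hE⟩ : ∃ x : centralizer (V : Set G), (x : G) = e := ⟨⟨e, eC⟩, rfl⟩
  obtain ⟨F, hF⟩ : ∃ x : centralizer (V : Set G), (x : G) = f := ⟨⟨f, fC⟩, rfl⟩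
  obtain ⟨H, hH⟩ : ∃ x : centralizer (V : Set G), (x : G) = g := ⟨⟨g, gC⟩, rfl⟩
  have lift1 : ∀ {x : centralizer (V : Set G)}, (x : G) = 1 → π x = 1 := fun {x} hx => by
    rw [show x = 1 from Subtype.ext hx, map_one]
  have mem1 : ∀ {x : centralizer (V : Set G)}, π x = 1 ↔ (x : G) ∈ V := fun {x} =>
    (QuotientGroup.eq_one_iff x).trans mem_subgroupOf
  have hrel : Rel (π D) (π E) (π F) (π H) := by
    refine ⟨?_, ?_, ?_, ?_, ?_, ?_, ?_, ?_, fun h1 => heV (hE ▸ mem1.1 h1)⟩
    iterate 4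
      rw [← map_mul]
      exact lift1 (by simp [hD, hE, hF, hH, h.hd, h.he, h.hf, h.hg])
    · rw [← map_mul, ← map_mul]
      exact congrArg π (Subtype.ext (by simp [hE, hF, hH, ← h.hefg]))
    all_goals
      rw [← map_mul, ← map_pow]
      exact lift1 (by simp [hD, hE, hF, hH, h.hde, h.hdf, h.hdg])
  have hD1 : π D ≠ 1 := fun h1 => by
    have h3 := hrel.hde
    rw [h1, one_mul, pow_succ, pow_two, hrel.he, one_mul] at h3
    exact hrel.he1 h3
  have hC2 : orderOf (π C) = 2 := by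
    refine orderOf_eq_prime ?_ fun h1 => hcV (hC ▸ mem1.1 h1)
    rw [pow_two, ← map_mul]
    exact lift1 (by simp [hC, hc2])
  have hcomm : ∀ {x y : centralizer (V : Set G)}, Commute (x : G) y → Commute (π x) (π y) := fun {x y} hxy =>
    (show Commute x y from Subtype.ext hxy.eq).map π
  obtain ⟨h5, h4⟩ := five_involutions (cit_quotient hV hcit) hrel hD1 hC2 (hcomm (x := C) (y := F) (by
    rw [hC, hF]; exact hcf)) (hcomm (x := C) (y := H) (by rw [hC, hH]; exact hcg)) (fun h1 => hceV (by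
      have : π (C * E) = 1 := by rw [map_mul, h1, hrel.he]
      simpa [hC, hE] using mem1.1 this))
  rw [← map_mul, ← map_pow] at h5
  rw [← map_mul, ← map_mul, ← map_mul, ← map_pow] at h4
  have h5' : (c * d) ^ 5 ∈ V := by simpa [hC, hD] using mem1.1 h5
  have h4' : (c * d * f * g) ^ 4 ∈ V := by simpa [hC, hD, hF, hH] using mem1.1 h4
  refine ⟨?_, ?_⟩
  · have cad : Commute a d := mem_centralizer_iff.1 dC a ha
    have cac : Commute a c := mem_centralizer_iff.1 cC a ha
    obtain ⟨t, ht⟩ : ∃ t, t = c * (d * a) := ⟨_, rfl⟩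
    have hda : (d * a) * (d * a) = 1 := by
      rw [← mul_assoc, mul_assoc d a d, cad.eq, ← mul_assoc, h.hd, one_mul, hV a ha]
    have hcd : c * d = t * a := by
      rw [ht, mul_assoc c (d * a), mul_assoc d a a, hV a ha, mul_one]
    have hca : Commute t a := ht ▸ (cac.symm.mul_left (cad.symm.mul_left (Commute.refl a)))
    have ha5 : a ^ 5 = a := by
      simp only [pow_succ, pow_zero, one_mul, hV a ha]
    have hz : t ^ 5 ∈ V := by
      have := h5'
      rw [hcd, hca.mul_pow, ha5] at this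
      simpa [mul_assoc, hV a ha] using mul_mem this ha
    have htc : c = t * (d * a) := by rw [ht, mul_assoc, hda, mul_one]
    have hinv : (d * a) * t⁻¹ = t * (d * a) := by
      rw [← htc, ht, _root_.mul_inv_rev, inv_of hda, inv_of hc2, ← mul_assoc, hda, one_mul]
    have hsemi : SemiconjBy (d * a) t⁻¹ t := hinv
    have hconj : c * t ^ 5 = t ^ 3 * (d * a) * (t ^ 3)⁻¹ := by
      rw [mul_assoc (t ^ 3), ← inv_pow, (hsemi.pow_right 3).eq, ← mul_assoc,
        (mem_centralizer_iff.1 cC (t ^ 5) hz).symm, htc, ← mul_assoc, ← pow_succ, ← pow_add]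
    rw [hcd, hca.mul_pow, ha5, hcu _ hz (hconj ▸ hP _ _ hPd), one_mul]
  · obtain ⟨x, hx⟩ : ∃ x, x = (c * d * f * g) ^ 2 := ⟨_, rfl⟩
    have hxx : x * x = (c * d * f * g) ^ 4 := by rw [hx, ← pow_add]
    rw [← hxx] at h4' ⊢
    by_cases hxV : x ∈ V
    · exact hV x hxV
    · exact hsq x (hx ▸ pow_mem (mul_mem (mul_mem (mul_mem cC dC) fC) gC) 2) hxV h4'

end CfsgLib.Recog.HeldType
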